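import Mathlib.Data.Int.Notation
import Mathlib.Data.Nat.Notation

/-!
Integer matrices generating the group 6.Suz inside the automorphism group of the Leech lattice, a matrix
commuting with the subgroup 2.G2(4), and words for commutators giving the central elements.
-/

set_option autoImplicit false

namespace CfsgLib.SchurSuz

/-- A matrix. -/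
def AM : List (List ℤ) :=
  [[4, -4, 0, 0, 2, -2, -2, 0, 0, 0, 2, 0, 0, 0, 2, 0, 0, 0, 0, 0, 2, 2, 2, 0],
    [-4, 4, 0, 0, 2, -2, -2, 0, 0, 0, 2, 0, 0, 0, 2, 0, 0, 0, 0, 0, 2, 2, 2, 0],
    [0, 0, 4, 0, 2, 2, -2, 0, 4, 0, -2, 0, 0, 0, 2, 0, 0, 0, 0, 0, 2, -2, -2, 0],
    [0, 0, 0, 4, 2, -2, -2, 0, 0, 0, -2, 0, 0, 0, -2, 0, -4, 0, 0, 0, -2, 2, -2, 0],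
    [2, 2, 2, 2, 0, 0, 0, -2, -2, -2, 0, 2, -2, -2, 0, 2, 2, 2, -2, -2, 0, 0, 0, -2],
    [-2, -2, 2, -2, 0, 0, 0, -2, -2, -2, 0, -2, 2, 2, 0, 2, -2, -2, -2, -2, 0, 0, 0, -2],
    [-2, -2, -2, -2, 0, 0, 0, -2, 2, -2, 0, 2, -2, -2, 0, -2, -2, 2, -2, 2, 0, 0, 0, -2],
    [0, 0, 0, 0, -2, -2, -2, 4, 0, -4, 2, 0, 0, 0, 2, 0, 0, 0, 0, 0, -2, -2, -2, 0],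
    [0, 0, 4, 0, -2, -2, 2, 0, 4, 0, 2, 0, 0, 0, -2, 0, 0, 0, 0, 0, -2, 2, 2, 0],
    [0, 0, 0, 0, -2, -2, -2, -4, 0, 4, 2, 0, 0, 0, 2, 0, 0, 0, 0, 0, -2, -2, -2, 0],
    [2, 2, -2, -2, 0, 0, 0, 2, 2, 2, 0, -2, 2, -2, 0, 2, -2, 2, -2, -2, 0, 0, 0, -2],
    [0, 0, 0, 0, 2, -2, 2, 0, 0, 0, -2, 4, 4, 0, 2, 0, 0, 0, 0, 0, -2, -2, 2, 0],
    [0, 0, 0, 0, -2, 2, -2, 0, 0, 0, 2, 4, 4, 0, -2, 0, 0, 0, 0, 0, 2, 2, -2, 0],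
    [0, 0, 0, 0, -2, 2, -2, 0, 0, 0, -2, 0, 0, 4, 2, 0, 0, 4, 0, 0, -2, 2, 2, 0],
    [2, 2, 2, -2, 0, 0, 0, 2, -2, 2, 0, 2, -2, 2, 0, -2, -2, -2, -2, 2, 0, 0, 0, -2],
    [0, 0, 0, 0, 2, 2, -2, 0, 0, 0, 2, 0, 0, 0, -2, 4, 0, 0, 0, 4, -2, -2, 2, 0],
    [0, 0, 0, -4, 2, -2, -2, 0, 0, 0, -2, 0, 0, 0, -2, 0, 4, 0, 0, 0, -2, 2, -2, 0],
    [0, 0, 0, 0, 2, -2, 2, 0, 0, 0, 2, 0, 0, 4, -2, 0, 0, 4, 0, 0, 2, -2, -2, 0],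
    [0, 0, 0, 0, -2, -2, -2, 0, 0, 0, -2, 0, 0, 0, -2, 0, 0, 0, 4, 0, 2, -2, 2, -4],
    [0, 0, 0, 0, -2, -2, 2, 0, 0, 0, -2, 0, 0, 0, 2, 4, 0, 0, 0, 4, 2, 2, -2, 0],
    [2, 2, 2, -2, 0, 0, 0, -2, -2, -2, 0, -2, 2, -2, 0, -2, -2, 2, 2, 2, 0, 0, 0, 2],
    [2, 2, -2, 2, 0, 0, 0, -2, 2, -2, 0, -2, 2, 2, 0, -2, 2, -2, -2, 2, 0, 0, 0, -2],
    [2, 2, -2, -2, 0, 0, 0, -2, 2, -2, 0, 2, -2, 2, 0, 2, -2, -2, 2, -2, 0, 0, 0, 2],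
    [0, 0, 0, 0, -2, -2, -2, 0, 0, 0, -2, 0, 0, 0, -2, 0, 0, 0, -4, 0, 2, -2, 2, 4]]

/-- Its transpose. -/
def AMT : List (List ℤ) :=
  [[4, -4, 0, 0, 2, -2, -2, 0, 0, 0, 2, 0, 0, 0, 2, 0, 0, 0, 0, 0, 2, 2, 2, 0],
    [-4, 4, 0, 0, 2, -2, -2, 0, 0, 0, 2, 0, 0, 0, 2, 0, 0, 0, 0, 0, 2, 2, 2, 0],
    [0, 0, 4, 0, 2, 2, -2, 0, 4, 0, -2, 0, 0, 0, 2, 0, 0, 0, 0, 0, 2, -2, -2, 0],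
    [0, 0, 0, 4, 2, -2, -2, 0, 0, 0, -2, 0, 0, 0, -2, 0, -4, 0, 0, 0, -2, 2, -2, 0],
    [2, 2, 2, 2, 0, 0, 0, -2, -2, -2, 0, 2, -2, -2, 0, 2, 2, 2, -2, -2, 0, 0, 0, -2],
    [-2, -2, 2, -2, 0, 0, 0, -2, -2, -2, 0, -2, 2, 2, 0, 2, -2, -2, -2, -2, 0, 0, 0, -2],
    [-2, -2, -2, -2, 0, 0, 0, -2, 2, -2, 0, 2, -2, -2, 0, -2, -2, 2, -2, 2, 0, 0, 0, -2],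
    [0, 0, 0, 0, -2, -2, -2, 4, 0, -4, 2, 0, 0, 0, 2, 0, 0, 0, 0, 0, -2, -2, -2, 0],
    [0, 0, 4, 0, -2, -2, 2, 0, 4, 0, 2, 0, 0, 0, -2, 0, 0, 0, 0, 0, -2, 2, 2, 0],
    [0, 0, 0, 0, -2, -2, -2, -4, 0, 4, 2, 0, 0, 0, 2, 0, 0, 0, 0, 0, -2, -2, -2, 0],
    [2, 2, -2, -2, 0, 0, 0, 2, 2, 2, 0, -2, 2, -2, 0, 2, -2, 2, -2, -2, 0, 0, 0, -2],
    [0, 0, 0, 0, 2, -2, 2, 0, 0, 0, -2, 4, 4, 0, 2, 0, 0, 0, 0, 0, -2, -2, 2, 0],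
    [0, 0, 0, 0, -2, 2, -2, 0, 0, 0, 2, 4, 4, 0, -2, 0, 0, 0, 0, 0, 2, 2, -2, 0],
    [0, 0, 0, 0, -2, 2, -2, 0, 0, 0, -2, 0, 0, 4, 2, 0, 0, 4, 0, 0, -2, 2, 2, 0],
    [2, 2, 2, -2, 0, 0, 0, 2, -2, 2, 0, 2, -2, 2, 0, -2, -2, -2, -2, 2, 0, 0, 0, -2],
    [0, 0, 0, 0, 2, 2, -2, 0, 0, 0, 2, 0, 0, 0, -2, 4, 0, 0, 0, 4, -2, -2, 2, 0],
    [0, 0, 0, -4, 2, -2, -2, 0, 0, 0, -2, 0, 0, 0, -2, 0, 4, 0, 0, 0, -2, 2, -2, 0],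
    [0, 0, 0, 0, 2, -2, 2, 0, 0, 0, 2, 0, 0, 4, -2, 0, 0, 4, 0, 0, 2, -2, -2, 0],
    [0, 0, 0, 0, -2, -2, -2, 0, 0, 0, -2, 0, 0, 0, -2, 0, 0, 0, 4, 0, 2, -2, 2, -4],
    [0, 0, 0, 0, -2, -2, 2, 0, 0, 0, -2, 0, 0, 0, 2, 4, 0, 0, 0, 4, 2, 2, -2, 0],
    [2, 2, 2, -2, 0, 0, 0, -2, -2, -2, 0, -2, 2, -2, 0, -2, -2, 2, 2, 2, 0, 0, 0, 2],
    [2, 2, -2, 2, 0, 0, 0, -2, 2, -2, 0, -2, 2, 2, 0, -2, 2, -2, -2, 2, 0, 0, 0, -2],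
    [2, 2, -2, -2, 0, 0, 0, -2, 2, -2, 0, 2, -2, 2, 0, 2, -2, -2, 2, -2, 0, 0, 0, 2],
    [0, 0, 0, 0, -2, -2, -2, 0, 0, 0, -2, 0, 0, 0, -2, 0, 0, 0, -4, 0, 2, -2, 2, 4]]

/-- A matrix. -/
def BM : List (List ℤ) :=
  [[6, 0, 0, 2, 0, -2, 2, 0, 0, 0, -2, 0, 2, 0, 0, 0, 0, 2, 0, 0, 0, 0, -2, 0],
    [0, 2, 2, 0, 2, 0, 0, 2, 2, 2, 0, 2, 0, -2, -2, -2, 2, 0, 2, 2, 2, 2, 0, -2],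
    [0, 2, 2, 0, 2, 0, 0, 2, 2, -2, 0, -2, 0, 2, 2, 2, 2, 0, 2, -2, -2, 2, 0, 2],
    [2, 0, 0, 6, 0, 2, -2, 0, 0, 0, 2, 0, -2, 0, 0, 0, 0, -2, 0, 0, 0, 0, 2, 0],
    [0, 2, 2, 0, 2, 0, 0, 2, -2, 2, 0, 2, 0, 2, -2, 2, -2, 0, -2, -2, -2, -2, 0, -2],
    [-2, 0, 0, 2, 0, 6, 2, 0, 0, 0, -2, 0, 2, 0, 0, 0, 0, 2, 0, 0, 0, 0, -2, 0],
    [2, 0, 0, -2, 0, 2, -2, 0, 0, 0, 2, 0, -2, 0, 0, 0, 0, 6, 0, 0, 0, 0, 2, 0],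
    [0, 2, 2, 0, 2, 0, 0, 2, -2, -2, 0, -2, 0, -2, 2, -2, -2, 0, -2, 2, 2, -2, 0, 2],
    [0, 2, 2, 0, -2, 0, 0, -2, 2, 2, 0, 2, 0, 2, 2, 2, -2, 0, -2, 2, 2, 2, 0, 2],
    [0, 2, -2, 0, 2, 0, 0, -2, 2, 2, 0, -2, 0, -2, 2, 2, -2, 0, 2, -2, 2, -2, 0, -2],
    [-2, 0, 0, 2, 0, -2, 2, 0, 0, 0, 6, 0, 2, 0, 0, 0, 0, 2, 0, 0, 0, 0, -2, 0],
    [0, 2, -2, 0, 2, 0, 0, -2, 2, -2, 0, 2, 0, 2, -2, -2, -2, 0, 2, 2, -2, -2, 0, 2],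
    [2, 0, 0, -2, 0, 2, -2, 0, 0, 0, 2, 0, 6, 0, 0, 0, 0, -2, 0, 0, 0, 0, 2, 0],
    [0, -2, 2, 0, 2, 0, 0, -2, 2, -2, 0, 2, 0, 2, 2, -2, 2, 0, -2, -2, 2, -2, 0, -2],
    [0, -2, 2, 0, -2, 0, 0, 2, 2, 2, 0, -2, 0, 2, 2, -2, -2, 0, 2, 2, -2, -2, 0, -2],
    [0, -2, 2, 0, 2, 0, 0, -2, 2, 2, 0, -2, 0, -2, -2, 2, 2, 0, -2, 2, -2, -2, 0, 2],
    [0, 2, 2, 0, -2, 0, 0, -2, -2, -2, 0, -2, 0, 2, -2, 2, 2, 0, 2, 2, 2, -2, 0, -2],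
    [2, 0, 0, -2, 0, 2, 6, 0, 0, 0, 2, 0, -2, 0, 0, 0, 0, -2, 0, 0, 0, 0, 2, 0],
    [0, 2, 2, 0, -2, 0, 0, -2, -2, 2, 0, 2, 0, -2, 2, -2, 2, 0, 2, -2, -2, -2, 0, 2],
    [0, 2, -2, 0, -2, 0, 0, 2, 2, -2, 0, 2, 0, -2, 2, 2, 2, 0, -2, 2, -2, -2, 0, -2],
    [0, 2, -2, 0, -2, 0, 0, 2, 2, 2, 0, -2, 0, 2, -2, -2, 2, 0, -2, -2, 2, -2, 0, 2],
    [0, 2, 2, 0, -2, 0, 0, -2, 2, -2, 0, -2, 0, -2, -2, -2, -2, 0, -2, -2, -2, 2, 0, -2],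
    [-2, 0, 0, 2, 0, -2, 2, 0, 0, 0, -2, 0, 2, 0, 0, 0, 0, 2, 0, 0, 0, 0, 6, 0],
    [0, -2, 2, 0, -2, 0, 0, 2, 2, -2, 0, 2, 0, -2, -2, 2, -2, 0, 2, -2, 2, -2, 0, 2]]

/-- Its transpose. -/
def BMT : List (List ℤ) :=
  [[6, 0, 0, 2, 0, -2, 2, 0, 0, 0, -2, 0, 2, 0, 0, 0, 0, 2, 0, 0, 0, 0, -2, 0],
    [0, 2, 2, 0, 2, 0, 0, 2, 2, 2, 0, 2, 0, -2, -2, -2, 2, 0, 2, 2, 2, 2, 0, -2],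
    [0, 2, 2, 0, 2, 0, 0, 2, 2, -2, 0, -2, 0, 2, 2, 2, 2, 0, 2, -2, -2, 2, 0, 2],
    [2, 0, 0, 6, 0, 2, -2, 0, 0, 0, 2, 0, -2, 0, 0, 0, 0, -2, 0, 0, 0, 0, 2, 0],
    [0, 2, 2, 0, 2, 0, 0, 2, -2, 2, 0, 2, 0, 2, -2, 2, -2, 0, -2, -2, -2, -2, 0, -2],
    [-2, 0, 0, 2, 0, 6, 2, 0, 0, 0, -2, 0, 2, 0, 0, 0, 0, 2, 0, 0, 0, 0, -2, 0],
    [2, 0, 0, -2, 0, 2, -2, 0, 0, 0, 2, 0, -2, 0, 0, 0, 0, 6, 0, 0, 0, 0, 2, 0],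
    [0, 2, 2, 0, 2, 0, 0, 2, -2, -2, 0, -2, 0, -2, 2, -2, -2, 0, -2, 2, 2, -2, 0, 2],
    [0, 2, 2, 0, -2, 0, 0, -2, 2, 2, 0, 2, 0, 2, 2, 2, -2, 0, -2, 2, 2, 2, 0, 2],
    [0, 2, -2, 0, 2, 0, 0, -2, 2, 2, 0, -2, 0, -2, 2, 2, -2, 0, 2, -2, 2, -2, 0, -2],
    [-2, 0, 0, 2, 0, -2, 2, 0, 0, 0, 6, 0, 2, 0, 0, 0, 0, 2, 0, 0, 0, 0, -2, 0],
    [0, 2, -2, 0, 2, 0, 0, -2, 2, -2, 0, 2, 0, 2, -2, -2, -2, 0, 2, 2, -2, -2, 0, 2],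
    [2, 0, 0, -2, 0, 2, -2, 0, 0, 0, 2, 0, 6, 0, 0, 0, 0, -2, 0, 0, 0, 0, 2, 0],
    [0, -2, 2, 0, 2, 0, 0, -2, 2, -2, 0, 2, 0, 2, 2, -2, 2, 0, -2, -2, 2, -2, 0, -2],
    [0, -2, 2, 0, -2, 0, 0, 2, 2, 2, 0, -2, 0, 2, 2, -2, -2, 0, 2, 2, -2, -2, 0, -2],
    [0, -2, 2, 0, 2, 0, 0, -2, 2, 2, 0, -2, 0, -2, -2, 2, 2, 0, -2, 2, -2, -2, 0, 2],
    [0, 2, 2, 0, -2, 0, 0, -2, -2, -2, 0, -2, 0, 2, -2, 2, 2, 0, 2, 2, 2, -2, 0, -2],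
    [2, 0, 0, -2, 0, 2, 6, 0, 0, 0, 2, 0, -2, 0, 0, 0, 0, -2, 0, 0, 0, 0, 2, 0],
    [0, 2, 2, 0, -2, 0, 0, -2, -2, 2, 0, 2, 0, -2, 2, -2, 2, 0, 2, -2, -2, -2, 0, 2],
    [0, 2, -2, 0, -2, 0, 0, 2, 2, -2, 0, 2, 0, -2, 2, 2, 2, 0, -2, 2, -2, -2, 0, -2],
    [0, 2, -2, 0, -2, 0, 0, 2, 2, 2, 0, -2, 0, 2, -2, -2, 2, 0, -2, -2, 2, -2, 0, 2],
    [0, 2, 2, 0, -2, 0, 0, -2, 2, -2, 0, -2, 0, -2, -2, -2, -2, 0, -2, -2, -2, 2, 0, -2],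
    [-2, 0, 0, 2, 0, -2, 2, 0, 0, 0, -2, 0, 2, 0, 0, 0, 0, 2, 0, 0, 0, 0, 6, 0],
    [0, -2, 2, 0, -2, 0, 0, 2, 2, -2, 0, 2, 0, -2, -2, 2, -2, 0, 2, -2, 2, -2, 0, 2]]

/-- A matrix. -/
def CM : List (List ℤ) :=
  [[-4, -2, 2, 0, 0, 0, -4, 2, 0, 0, 0, 0, 2, 0, 0, 2, 2, -2, 0, 0, 0, 0, 0, 2],
    [-2, 0, 0, -2, 2, -2, 2, 0, 2, -2, 2, 2, 0, -2, 2, 0, 0, 0, -2, 2, 2, 2, 2, 0],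
    [2, 0, 0, -2, 2, 2, -2, 0, 2, -2, -2, 2, 0, 2, 2, 0, 0, 0, 2, -2, 2, -2, 2, 0],
    [0, -2, -2, -4, 0, 0, 0, 2, 0, 0, 0, 0, -2, 0, 0, 2, -2, -2, 0, 0, -4, 0, 0, -2],
    [0, 2, 2, 0, -4, 0, 0, 2, 0, -4, 0, 0, -2, 0, 0, 2, 2, 2, 0, 0, 0, 0, 0, -2],
    [0, -2, 2, 0, 0, -4, 0, -2, 0, 0, 0, 0, 2, 4, 0, 2, -2, 2, 0, 0, 0, 0, 0, -2],
    [-4, 2, -2, 0, 0, 0, -4, -2, 0, 0, 0, 0, -2, 0, 0, -2, -2, 2, 0, 0, 0, 0, 0, -2],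
    [2, 0, 0, 2, 2, -2, -2, 0, -2, -2, 2, 2, 0, -2, 2, 0, 0, 0, -2, -2, -2, -2, -2, 0],
    [0, 2, 2, 0, 0, 0, 0, -2, -4, 0, 0, 0, -2, 0, 0, 2, -2, -2, 0, 0, 0, 0, 4, 2],
    [0, -2, -2, 0, -4, 0, 0, -2, 0, -4, 0, 0, 2, 0, 0, -2, -2, -2, 0, 0, 0, 0, 0, 2],
    [0, 2, -2, 0, 0, 0, 0, 2, 0, 0, -4, 0, 2, 0, 0, 2, -2, 2, -4, 0, 0, 0, 0, 2],
    [0, 2, 2, 0, 0, 0, 0, 2, 0, 0, 0, -4, 2, 0, 4, -2, -2, -2, 0, 0, 0, 0, 0, -2],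
    [2, 0, 0, -2, -2, 2, -2, 0, -2, 2, 2, 2, 0, 2, 2, 0, 0, 0, -2, 2, 2, 2, -2, 0],
    [0, -2, 2, 0, 0, 4, 0, -2, 0, 0, 0, 0, 2, -4, 0, 2, -2, 2, 0, 0, 0, 0, 0, -2],
    [0, 2, 2, 0, 0, 0, 0, 2, 0, 0, 0, 4, 2, 0, -4, -2, -2, -2, 0, 0, 0, 0, 0, -2],
    [2, 0, 0, 2, 2, 2, -2, 0, 2, -2, 2, -2, 0, 2, -2, 0, 0, 0, -2, 2, -2, 2, 2, 0],
    [2, 0, 0, -2, 2, -2, -2, 0, -2, -2, -2, -2, 0, -2, -2, 0, 0, 0, 2, 2, 2, 2, -2, 0],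
    [-2, 0, 0, -2, 2, 2, 2, 0, -2, -2, 2, -2, 0, 2, -2, 0, 0, 0, -2, -2, 2, -2, -2, 0],
    [0, -2, 2, 0, 0, 0, 0, -2, 0, 0, -4, 0, -2, 0, 0, -2, 2, -2, -4, 0, 0, 0, 0, -2],
    [0, 2, -2, 0, 0, 0, 0, -2, 0, 0, 0, 0, 2, 0, 0, 2, 2, -2, 0, -4, 0, 4, 0, -2],
    [0, 2, 2, -4, 0, 0, 0, -2, 0, 0, 0, 0, 2, 0, 0, -2, 2, 2, 0, 0, -4, 0, 0, 2],
    [0, 2, -2, 0, 0, 0, 0, -2, 0, 0, 0, 0, 2, 0, 0, 2, 2, -2, 0, 4, 0, -4, 0, -2],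
    [0, 2, 2, 0, 0, 0, 0, -2, 4, 0, 0, 0, -2, 0, 0, 2, -2, -2, 0, 0, 0, 0, -4, 2],
    [2, 0, 0, -2, -2, -2, -2, 0, 2, 2, 2, -2, 0, -2, -2, 0, 0, 0, -2, -2, 2, -2, 2, 0]]

/-- Its transpose. -/
def CMT : List (List ℤ) :=
  [[-4, -2, 2, 0, 0, 0, -4, 2, 0, 0, 0, 0, 2, 0, 0, 2, 2, -2, 0, 0, 0, 0, 0, 2],
    [-2, 0, 0, -2, 2, -2, 2, 0, 2, -2, 2, 2, 0, -2, 2, 0, 0, 0, -2, 2, 2, 2, 2, 0],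
    [2, 0, 0, -2, 2, 2, -2, 0, 2, -2, -2, 2, 0, 2, 2, 0, 0, 0, 2, -2, 2, -2, 2, 0],
    [0, -2, -2, -4, 0, 0, 0, 2, 0, 0, 0, 0, -2, 0, 0, 2, -2, -2, 0, 0, -4, 0, 0, -2],
    [0, 2, 2, 0, -4, 0, 0, 2, 0, -4, 0, 0, -2, 0, 0, 2, 2, 2, 0, 0, 0, 0, 0, -2],
    [0, -2, 2, 0, 0, -4, 0, -2, 0, 0, 0, 0, 2, 4, 0, 2, -2, 2, 0, 0, 0, 0, 0, -2],
    [-4, 2, -2, 0, 0, 0, -4, -2, 0, 0, 0, 0, -2, 0, 0, -2, -2, 2, 0, 0, 0, 0, 0, -2],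
    [2, 0, 0, 2, 2, -2, -2, 0, -2, -2, 2, 2, 0, -2, 2, 0, 0, 0, -2, -2, -2, -2, -2, 0],
    [0, 2, 2, 0, 0, 0, 0, -2, -4, 0, 0, 0, -2, 0, 0, 2, -2, -2, 0, 0, 0, 0, 4, 2],
    [0, -2, -2, 0, -4, 0, 0, -2, 0, -4, 0, 0, 2, 0, 0, -2, -2, -2, 0, 0, 0, 0, 0, 2],
    [0, 2, -2, 0, 0, 0, 0, 2, 0, 0, -4, 0, 2, 0, 0, 2, -2, 2, -4, 0, 0, 0, 0, 2],
    [0, 2, 2, 0, 0, 0, 0, 2, 0, 0, 0, -4, 2, 0, 4, -2, -2, -2, 0, 0, 0, 0, 0, -2],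
    [2, 0, 0, -2, -2, 2, -2, 0, -2, 2, 2, 2, 0, 2, 2, 0, 0, 0, -2, 2, 2, 2, -2, 0],
    [0, -2, 2, 0, 0, 4, 0, -2, 0, 0, 0, 0, 2, -4, 0, 2, -2, 2, 0, 0, 0, 0, 0, -2],
    [0, 2, 2, 0, 0, 0, 0, 2, 0, 0, 0, 4, 2, 0, -4, -2, -2, -2, 0, 0, 0, 0, 0, -2],
    [2, 0, 0, 2, 2, 2, -2, 0, 2, -2, 2, -2, 0, 2, -2, 0, 0, 0, -2, 2, -2, 2, 2, 0],
    [2, 0, 0, -2, 2, -2, -2, 0, -2, -2, -2, -2, 0, -2, -2, 0, 0, 0, 2, 2, 2, 2, -2, 0],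
    [-2, 0, 0, -2, 2, 2, 2, 0, -2, -2, 2, -2, 0, 2, -2, 0, 0, 0, -2, -2, 2, -2, -2, 0],
    [0, -2, 2, 0, 0, 0, 0, -2, 0, 0, -4, 0, -2, 0, 0, -2, 2, -2, -4, 0, 0, 0, 0, -2],
    [0, 2, -2, 0, 0, 0, 0, -2, 0, 0, 0, 0, 2, 0, 0, 2, 2, -2, 0, -4, 0, 4, 0, -2],
    [0, 2, 2, -4, 0, 0, 0, -2, 0, 0, 0, 0, 2, 0, 0, -2, 2, 2, 0, 0, -4, 0, 0, 2],
    [0, 2, -2, 0, 0, 0, 0, -2, 0, 0, 0, 0, 2, 0, 0, 2, 2, -2, 0, 4, 0, -4, 0, -2],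
    [0, 2, 2, 0, 0, 0, 0, -2, 4, 0, 0, 0, -2, 0, 0, 2, -2, -2, 0, 0, 0, 0, -4, 2],
    [2, 0, 0, -2, -2, -2, -2, 0, 2, 2, 2, -2, 0, -2, -2, 0, 0, 0, -2, -2, 2, -2, 2, 0]]

/-- A matrix. -/
def DM : List (List ℤ) :=
  [[0, -2, 4, 2, -2, 2, 0, -2, 2, 0, 0, -2, 0, 0, 2, 0, 0, -2, 0, -2, 0, 0, -2, 2],
    [2, 0, -2, 0, 0, 0, 2, -4, 0, -2, 2, 0, 2, -2, 0, 2, 2, 0, 2, 0, 2, 2, 0, 0],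
    [-4, 2, 0, -2, -2, -2, 0, -2, 2, 0, 0, -2, 0, 0, -2, 0, 0, 2, 0, -2, 0, 0, -2, -2],
    [-2, 0, 2, 0, 0, 0, -2, 0, 0, -2, -2, 0, 2, 2, 0, 2, 2, 0, 2, 0, -2, 2, 4, 0],
    [2, 0, 2, 0, 0, 0, 2, 0, 0, 2, -2, 0, -2, 2, -4, -2, 2, 0, 2, 0, 2, 2, 0, 0],
    [-2, 0, 2, 0, 0, 0, 2, 0, -4, -2, 2, 0, -2, -2, 0, -2, 2, 0, 2, 0, -2, -2, 0, 0],
    [0, -2, 0, 2, -2, -2, 0, 2, -2, 0, 0, 2, 0, 0, 2, 0, 0, 2, 0, -2, 0, 4, -2, -2],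
    [2, 4, 2, 0, 0, 0, -2, 0, 0, 2, 2, 0, -2, -2, 0, 2, 2, 0, -2, 0, -2, 2, 0, 0],
    [-2, 0, -2, 0, 0, 4, 2, 0, 0, 2, 2, 0, 2, 2, 0, -2, 2, 0, -2, 0, -2, 2, 0, 0],
    [0, 2, 0, 2, -2, 2, 0, -2, -2, 0, 0, 2, 0, 0, -2, 0, -4, 2, 0, -2, 0, 0, 2, 2],
    [0, -2, 0, 2, 2, -2, 0, -2, -2, 0, 0, -2, 0, 0, -2, 0, 0, -2, -4, -2, 0, 0, 2, -2],
    [2, 0, 2, 0, 0, 0, -2, 0, 0, -2, 2, 0, 2, 2, 0, -2, 2, 4, -2, 0, 2, -2, 0, 0],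
    [0, -2, 0, -2, 2, 2, 0, 2, -2, 0, 0, -2, 0, 0, -2, 4, 0, 2, 0, -2, 0, 0, -2, 2],
    [0, 2, 0, -2, -2, 2, 0, 2, -2, 0, 0, -2, 0, 0, 2, 0, 0, -2, 0, -2, 4, 0, 2, -2],
    [-2, 0, 2, 0, 4, 0, -2, 0, 0, 2, 2, 0, 2, -2, 0, -2, -2, 0, 2, 0, 2, 2, 0, 0],
    [0, -2, 0, -2, 2, 2, 0, -2, 2, 0, 0, 2, -4, 0, 2, 0, 0, 2, 0, -2, 0, 0, 2, -2],
    [0, -2, 0, -2, -2, -2, 0, -2, -2, 4, 0, -2, 0, 0, 2, 0, 0, 2, 0, 2, 0, 0, 2, 2],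
    [2, 0, -2, 0, 0, 0, -2, 0, 0, -2, 2, -4, -2, 2, 0, -2, -2, 0, 2, 0, -2, 2, 0, 0],
    [0, -2, 0, -2, -2, -2, 0, 2, 2, 0, 4, 2, 0, 0, -2, 0, 0, -2, 0, -2, 0, 0, 2, 2],
    [2, 0, 2, 0, 0, 0, 2, 0, 0, 2, 2, 0, 2, 2, 0, 2, -2, 0, 2, 0, -2, -2, 0, -4],
    [0, -2, 0, 2, -2, 2, 0, 2, 2, 0, 0, -2, 0, -4, -2, 0, 0, 2, 0, 2, 0, 0, 2, -2],
    [0, -2, 0, -2, -2, 2, -4, -2, -2, 0, 0, 2, 0, 0, -2, 0, 0, -2, 0, 2, 0, 0, -2, -2],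
    [2, 0, 2, -4, 0, 0, 2, 0, 0, -2, -2, 0, 2, -2, 0, -2, -2, 0, -2, 0, -2, 2, 0, 0],
    [-2, 0, 2, 0, 0, 0, 2, 0, 0, -2, 2, 0, -2, 2, 0, 2, -2, 0, -2, 4, 2, 2, 0, 0]]

/-- Its transpose. -/
def DMT : List (List ℤ) :=
  [[0, 2, -4, -2, 2, -2, 0, 2, -2, 0, 0, 2, 0, 0, -2, 0, 0, 2, 0, 2, 0, 0, 2, -2],
    [-2, 0, 2, 0, 0, 0, -2, 4, 0, 2, -2, 0, -2, 2, 0, -2, -2, 0, -2, 0, -2, -2, 0, 0],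
    [4, -2, 0, 2, 2, 2, 0, 2, -2, 0, 0, 2, 0, 0, 2, 0, 0, -2, 0, 2, 0, 0, 2, 2],
    [2, 0, -2, 0, 0, 0, 2, 0, 0, 2, 2, 0, -2, -2, 0, -2, -2, 0, -2, 0, 2, -2, -4, 0],
    [-2, 0, -2, 0, 0, 0, -2, 0, 0, -2, 2, 0, 2, -2, 4, 2, -2, 0, -2, 0, -2, -2, 0, 0],
    [2, 0, -2, 0, 0, 0, -2, 0, 4, 2, -2, 0, 2, 2, 0, 2, -2, 0, -2, 0, 2, 2, 0, 0],
    [0, 2, 0, -2, 2, 2, 0, -2, 2, 0, 0, -2, 0, 0, -2, 0, 0, -2, 0, 2, 0, -4, 2, 2],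
    [-2, -4, -2, 0, 0, 0, 2, 0, 0, -2, -2, 0, 2, 2, 0, -2, -2, 0, 2, 0, 2, -2, 0, 0],
    [2, 0, 2, 0, 0, -4, -2, 0, 0, -2, -2, 0, -2, -2, 0, 2, -2, 0, 2, 0, 2, -2, 0, 0],
    [0, -2, 0, -2, 2, -2, 0, 2, 2, 0, 0, -2, 0, 0, 2, 0, 4, -2, 0, 2, 0, 0, -2, -2],
    [0, 2, 0, -2, -2, 2, 0, 2, 2, 0, 0, 2, 0, 0, 2, 0, 0, 2, 4, 2, 0, 0, -2, 2],
    [-2, 0, -2, 0, 0, 0, 2, 0, 0, 2, -2, 0, -2, -2, 0, 2, -2, -4, 2, 0, -2, 2, 0, 0],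
    [0, 2, 0, 2, -2, -2, 0, -2, 2, 0, 0, 2, 0, 0, 2, -4, 0, -2, 0, 2, 0, 0, 2, -2],
    [0, -2, 0, 2, 2, -2, 0, -2, 2, 0, 0, 2, 0, 0, -2, 0, 0, 2, 0, 2, -4, 0, -2, 2],
    [2, 0, -2, 0, -4, 0, 2, 0, 0, -2, -2, 0, -2, 2, 0, 2, 2, 0, -2, 0, -2, -2, 0, 0],
    [0, 2, 0, 2, -2, -2, 0, 2, -2, 0, 0, -2, 4, 0, -2, 0, 0, -2, 0, 2, 0, 0, -2, 2],
    [0, 2, 0, 2, 2, 2, 0, 2, 2, -4, 0, 2, 0, 0, -2, 0, 0, -2, 0, -2, 0, 0, -2, -2],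
    [-2, 0, 2, 0, 0, 0, 2, 0, 0, 2, -2, 4, 2, -2, 0, 2, 2, 0, -2, 0, 2, -2, 0, 0],
    [0, 2, 0, 2, 2, 2, 0, -2, -2, 0, -4, -2, 0, 0, 2, 0, 0, 2, 0, 2, 0, 0, -2, -2],
    [-2, 0, -2, 0, 0, 0, -2, 0, 0, -2, -2, 0, -2, -2, 0, -2, 2, 0, -2, 0, 2, 2, 0, 4],
    [0, 2, 0, -2, 2, -2, 0, -2, -2, 0, 0, 2, 0, 4, 2, 0, 0, -2, 0, -2, 0, 0, -2, 2],
    [0, 2, 0, 2, 2, -2, 4, 2, 2, 0, 0, -2, 0, 0, 2, 0, 0, 2, 0, -2, 0, 0, 2, 2],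
    [-2, 0, -2, 4, 0, 0, -2, 0, 0, 2, 2, 0, -2, 2, 0, 2, 2, 0, 2, 0, 2, -2, 0, 0],
    [2, 0, -2, 0, 0, 0, -2, 0, 0, 2, -2, 0, 2, -2, 0, -2, 2, 0, 2, -4, -2, -2, 0, 0]]

/-- A matrix. -/
def EM : List (List ℤ) :=
  [[0, 2, 4, 2, 0, 0, 0, 0, 2, 0, 2, -2, -2, 0, 0, 0, 0, 0, 0, -2, 4, 0, -2, 0],
    [-2, 0, -2, 0, -2, 2, 2, -2, 0, -2, 0, 0, 0, 2, -2, 2, 2, -2, 2, 0, 2, 2, 0, -2],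
    [-4, 2, 0, -2, 0, 0, 0, 0, -2, 0, -2, 2, -2, 0, 0, 0, 0, 4, 0, -2, 0, 0, -2, 0],
    [-2, 0, 2, 0, -2, -2, -2, 2, 0, -2, 0, 0, 0, 2, 2, -2, 2, -2, 2, 0, -2, 2, 0, 2],
    [0, 2, 0, 2, 0, 0, 0, 0, -2, 0, -2, -2, -2, 0, -4, -4, 0, 0, 0, 2, 0, 0, 2, 0],
    [0, -2, 0, 2, 0, 0, 0, 0, -2, -4, 2, 2, -2, 0, 0, 0, 0, 0, 0, 2, 0, -4, -2, 0],
    [0, -2, 0, 2, 0, 0, 0, 0, -2, 4, 2, 2, -2, 0, 0, 0, 0, 0, 0, 2, 0, 4, -2, 0],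
    [0, 2, 0, -2, 0, 0, 0, 0, 2, 0, 2, 2, -2, -4, 0, 0, 4, 0, 0, 2, 0, 0, 2, 0],
    [-2, 0, 2, 0, 2, 2, 2, -2, 0, 2, 0, 0, 0, 2, 2, -2, 2, -2, -2, 0, -2, -2, 0, -2],
    [0, 2, 0, 2, 0, 4, -4, 0, -2, 0, 2, 2, 2, 0, 0, 0, 0, 0, 0, -2, 0, 0, 2, 0],
    [-2, 0, 2, 0, 2, -2, -2, -2, 0, -2, 0, 0, 0, -2, -2, 2, -2, -2, -2, 0, -2, 2, 0, -2],
    [2, 0, -2, 0, 2, -2, -2, -2, 0, -2, 0, 0, 0, 2, 2, -2, 2, 2, -2, 0, 2, 2, 0, -2],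
    [2, 0, 2, 0, 2, 2, 2, 2, 0, -2, 0, 0, 0, 2, -2, 2, 2, 2, -2, 0, -2, 2, 0, 2],
    [0, -2, 0, -2, 0, 0, 0, 4, -2, 0, 2, -2, -2, 0, 0, 0, 0, 0, 0, -2, 0, 0, 2, -4],
    [0, 2, 0, -2, 4, 0, 0, 0, -2, 0, 2, -2, 2, 0, 0, 0, 0, 0, 4, 2, 0, 0, -2, 0],
    [0, -2, 0, 2, 4, 0, 0, 0, 2, 0, -2, 2, -2, 0, 0, 0, 0, 0, 4, -2, 0, 0, 2, 0],
    [0, -2, 0, -2, 0, 0, 0, -4, -2, 0, 2, -2, -2, 0, 0, 0, 0, 0, 0, -2, 0, 0, 2, 4],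
    [0, 2, -4, 2, 0, 0, 0, 0, 2, 0, 2, -2, -2, 0, 0, 0, 0, 0, 0, -2, -4, 0, -2, 0],
    [0, -2, 0, -2, 0, 0, 0, 0, 2, 0, 2, 2, 2, 0, -4, -4, 0, 0, 0, -2, 0, 0, -2, 0],
    [2, 0, 2, 0, -2, -2, -2, -2, 0, 2, 0, 0, 0, 2, -2, 2, 2, 2, 2, 0, -2, -2, 0, -2],
    [-4, -2, 0, 2, 0, 0, 0, 0, 2, 0, 2, -2, 2, 0, 0, 0, 0, 4, 0, 2, 0, 0, 2, 0],
    [0, -2, 0, -2, 0, 4, -4, 0, 2, 0, -2, -2, -2, 0, 0, 0, 0, 0, 0, 2, 0, 0, -2, 0],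
    [2, 0, 2, 0, -2, 2, 2, -2, 0, -2, 0, 0, 0, -2, 2, -2, -2, 2, 2, 0, -2, 2, 0, -2],
    [0, 2, 0, -2, 0, 0, 0, 0, 2, 0, 2, 2, -2, 4, 0, 0, -4, 0, 0, 2, 0, 0, 2, 0]]

/-- Its transpose. -/
def EMT : List (List ℤ) :=
  [[0, -2, -4, -2, 0, 0, 0, 0, -2, 0, -2, 2, 2, 0, 0, 0, 0, 0, 0, 2, -4, 0, 2, 0],
    [2, 0, 2, 0, 2, -2, -2, 2, 0, 2, 0, 0, 0, -2, 2, -2, -2, 2, -2, 0, -2, -2, 0, 2],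
    [4, -2, 0, 2, 0, 0, 0, 0, 2, 0, 2, -2, 2, 0, 0, 0, 0, -4, 0, 2, 0, 0, 2, 0],
    [2, 0, -2, 0, 2, 2, 2, -2, 0, 2, 0, 0, 0, -2, -2, 2, -2, 2, -2, 0, 2, -2, 0, -2],
    [0, -2, 0, -2, 0, 0, 0, 0, 2, 0, 2, 2, 2, 0, 4, 4, 0, 0, 0, -2, 0, 0, -2, 0],
    [0, 2, 0, -2, 0, 0, 0, 0, 2, 4, -2, -2, 2, 0, 0, 0, 0, 0, 0, -2, 0, 4, 2, 0],
    [0, 2, 0, -2, 0, 0, 0, 0, 2, -4, -2, -2, 2, 0, 0, 0, 0, 0, 0, -2, 0, -4, 2, 0],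
    [0, -2, 0, 2, 0, 0, 0, 0, -2, 0, -2, -2, 2, 4, 0, 0, -4, 0, 0, -2, 0, 0, -2, 0],
    [2, 0, -2, 0, -2, -2, -2, 2, 0, -2, 0, 0, 0, -2, -2, 2, -2, 2, 2, 0, 2, 2, 0, 2],
    [0, -2, 0, -2, 0, -4, 4, 0, 2, 0, -2, -2, -2, 0, 0, 0, 0, 0, 0, 2, 0, 0, -2, 0],
    [2, 0, -2, 0, -2, 2, 2, 2, 0, 2, 0, 0, 0, 2, 2, -2, 2, 2, 2, 0, 2, -2, 0, 2],
    [-2, 0, 2, 0, -2, 2, 2, 2, 0, 2, 0, 0, 0, -2, -2, 2, -2, -2, 2, 0, -2, -2, 0, 2],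
    [-2, 0, -2, 0, -2, -2, -2, -2, 0, 2, 0, 0, 0, -2, 2, -2, -2, -2, 2, 0, 2, -2, 0, -2],
    [0, 2, 0, 2, 0, 0, 0, -4, 2, 0, -2, 2, 2, 0, 0, 0, 0, 0, 0, 2, 0, 0, -2, 4],
    [0, -2, 0, 2, -4, 0, 0, 0, 2, 0, -2, 2, -2, 0, 0, 0, 0, 0, -4, -2, 0, 0, 2, 0],
    [0, 2, 0, -2, -4, 0, 0, 0, -2, 0, 2, -2, 2, 0, 0, 0, 0, 0, -4, 2, 0, 0, -2, 0],
    [0, 2, 0, 2, 0, 0, 0, 4, 2, 0, -2, 2, 2, 0, 0, 0, 0, 0, 0, 2, 0, 0, -2, -4],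
    [0, -2, 4, -2, 0, 0, 0, 0, -2, 0, -2, 2, 2, 0, 0, 0, 0, 0, 0, 2, 4, 0, 2, 0],
    [0, 2, 0, 2, 0, 0, 0, 0, -2, 0, -2, -2, -2, 0, 4, 4, 0, 0, 0, 2, 0, 0, 2, 0],
    [-2, 0, -2, 0, 2, 2, 2, 2, 0, -2, 0, 0, 0, -2, 2, -2, -2, -2, -2, 0, 2, 2, 0, 2],
    [4, 2, 0, -2, 0, 0, 0, 0, -2, 0, -2, 2, -2, 0, 0, 0, 0, -4, 0, -2, 0, 0, -2, 0],
    [0, 2, 0, 2, 0, -4, 4, 0, -2, 0, 2, 2, 2, 0, 0, 0, 0, 0, 0, -2, 0, 0, 2, 0],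
    [-2, 0, -2, 0, 2, -2, -2, 2, 0, 2, 0, 0, 0, 2, -2, 2, 2, -2, -2, 0, 2, -2, 0, 2],
    [0, -2, 0, 2, 0, 0, 0, 0, -2, 0, -2, -2, 2, -4, 0, 0, 4, 0, 0, -2, 0, 0, -2, 0]]

/-- A matrix. -/
def FM : List (List ℤ) :=
  [[-2, -2, 0, -2, 2, 0, 0, -2, 0, 2, 2, 0, 0, 2, 2, -2, 2, 2, -2, -2, 0, 2, 0, -2],
    [-2, -2, 0, 2, 2, 0, 0, 2, 0, -2, 2, 0, 0, -2, 2, 2, -2, -2, -2, 2, 0, 2, 0, -2],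
    [0, 0, -6, 0, 0, 2, -2, 0, -2, 0, 0, -2, 2, 0, 0, 0, 0, 0, 0, 0, 2, 0, -2, 0],
    [-2, 2, 0, -2, 2, 0, 0, -2, 0, -2, -2, 0, 0, -2, -2, -2, -2, -2, -2, -2, 0, 2, 0, 2],
    [2, 2, 0, 2, -2, 0, 0, -2, 0, -2, 2, 0, 0, -2, -2, 2, 2, 2, -2, -2, 0, 2, 0, -2],
    [0, 0, 2, 0, 0, -6, -2, 0, -2, 0, 0, -2, 2, 0, 0, 0, 0, 0, 0, 0, 2, 0, -2, 0],
    [0, 0, -2, 0, 0, -2, -6, 0, 2, 0, 0, 2, -2, 0, 0, 0, 0, 0, 0, 0, -2, 0, 2, 0],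
    [-2, 2, 0, -2, -2, 0, 0, -2, 0, -2, 2, 0, 0, 2, 2, 2, -2, 2, -2, 2, 0, -2, 0, 2],
    [0, 0, -2, 0, 0, -2, 2, 0, -6, 0, 0, 2, -2, 0, 0, 0, 0, 0, 0, 0, -2, 0, 2, 0],
    [2, -2, 0, -2, -2, 0, 0, -2, 0, -2, 2, 0, 0, -2, 2, -2, -2, -2, 2, -2, 0, -2, 0, -2],
    [2, 2, 0, -2, 2, 0, 0, 2, 0, 2, -2, 0, 0, -2, 2, 2, -2, 2, -2, -2, 0, -2, 0, -2],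
    [0, 0, -2, 0, 0, -2, 2, 0, 2, 0, 0, 2, 6, 0, 0, 0, 0, 0, 0, 0, -2, 0, 2, 0],
    [0, 0, 2, 0, 0, 2, -2, 0, -2, 0, 0, 6, 2, 0, 0, 0, 0, 0, 0, 0, 2, 0, -2, 0],
    [2, -2, 0, -2, -2, 0, 0, 2, 0, -2, -2, 0, 0, -2, 2, -2, 2, 2, -2, 2, 0, 2, 0, 2],
    [2, 2, 0, -2, -2, 0, 0, 2, 0, 2, 2, 0, 0, 2, -2, -2, -2, -2, -2, 2, 0, 2, 0, -2],
    [-2, 2, 0, -2, 2, 0, 0, 2, 0, -2, 2, 0, 0, -2, -2, -2, 2, 2, 2, 2, 0, -2, 0, -2],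
    [2, -2, 0, -2, 2, 0, 0, -2, 0, -2, -2, 0, 0, 2, -2, 2, -2, 2, 2, 2, 0, 2, 0, -2],
    [2, -2, 0, -2, 2, 0, 0, 2, 0, -2, 2, 0, 0, 2, -2, 2, 2, -2, -2, -2, 0, -2, 0, 2],
    [-2, -2, 0, -2, -2, 0, 0, -2, 0, 2, -2, 0, 0, -2, -2, 2, 2, -2, -2, 2, 0, -2, 0, -2],
    [-2, 2, 0, -2, -2, 0, 0, 2, 0, -2, -2, 0, 0, 2, 2, 2, 2, -2, 2, -2, 0, 2, 0, -2],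
    [0, 0, 2, 0, 0, 2, -2, 0, -2, 0, 0, -2, 2, 0, 0, 0, 0, 0, 0, 0, -6, 0, -2, 0],
    [2, 2, 0, 2, 2, 0, 0, -2, 0, -2, -2, 0, 0, 2, 2, -2, 2, -2, -2, 2, 0, -2, 0, -2],
    [0, 0, -2, 0, 0, -2, 2, 0, 2, 0, 0, 2, -2, 0, 0, 0, 0, 0, 0, 0, -2, 0, -6, 0],
    [-2, -2, 0, 2, -2, 0, 0, 2, 0, -2, -2, 0, 0, 2, -2, -2, -2, 2, -2, -2, 0, -2, 0, -2]]

/-- Its transpose. -/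
def FMT : List (List ℤ) :=
  [[-2, -2, 0, -2, 2, 0, 0, -2, 0, 2, 2, 0, 0, 2, 2, -2, 2, 2, -2, -2, 0, 2, 0, -2],
    [-2, -2, 0, 2, 2, 0, 0, 2, 0, -2, 2, 0, 0, -2, 2, 2, -2, -2, -2, 2, 0, 2, 0, -2],
    [0, 0, -6, 0, 0, 2, -2, 0, -2, 0, 0, -2, 2, 0, 0, 0, 0, 0, 0, 0, 2, 0, -2, 0],
    [-2, 2, 0, -2, 2, 0, 0, -2, 0, -2, -2, 0, 0, -2, -2, -2, -2, -2, -2, -2, 0, 2, 0, 2],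
    [2, 2, 0, 2, -2, 0, 0, -2, 0, -2, 2, 0, 0, -2, -2, 2, 2, 2, -2, -2, 0, 2, 0, -2],
    [0, 0, 2, 0, 0, -6, -2, 0, -2, 0, 0, -2, 2, 0, 0, 0, 0, 0, 0, 0, 2, 0, -2, 0],
    [0, 0, -2, 0, 0, -2, -6, 0, 2, 0, 0, 2, -2, 0, 0, 0, 0, 0, 0, 0, -2, 0, 2, 0],
    [-2, 2, 0, -2, -2, 0, 0, -2, 0, -2, 2, 0, 0, 2, 2, 2, -2, 2, -2, 2, 0, -2, 0, 2],
    [0, 0, -2, 0, 0, -2, 2, 0, -6, 0, 0, 2, -2, 0, 0, 0, 0, 0, 0, 0, -2, 0, 2, 0],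
    [2, -2, 0, -2, -2, 0, 0, -2, 0, -2, 2, 0, 0, -2, 2, -2, -2, -2, 2, -2, 0, -2, 0, -2],
    [2, 2, 0, -2, 2, 0, 0, 2, 0, 2, -2, 0, 0, -2, 2, 2, -2, 2, -2, -2, 0, -2, 0, -2],
    [0, 0, -2, 0, 0, -2, 2, 0, 2, 0, 0, 2, 6, 0, 0, 0, 0, 0, 0, 0, -2, 0, 2, 0],
    [0, 0, 2, 0, 0, 2, -2, 0, -2, 0, 0, 6, 2, 0, 0, 0, 0, 0, 0, 0, 2, 0, -2, 0],
    [2, -2, 0, -2, -2, 0, 0, 2, 0, -2, -2, 0, 0, -2, 2, -2, 2, 2, -2, 2, 0, 2, 0, 2],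
    [2, 2, 0, -2, -2, 0, 0, 2, 0, 2, 2, 0, 0, 2, -2, -2, -2, -2, -2, 2, 0, 2, 0, -2],
    [-2, 2, 0, -2, 2, 0, 0, 2, 0, -2, 2, 0, 0, -2, -2, -2, 2, 2, 2, 2, 0, -2, 0, -2],
    [2, -2, 0, -2, 2, 0, 0, -2, 0, -2, -2, 0, 0, 2, -2, 2, -2, 2, 2, 2, 0, 2, 0, -2],
    [2, -2, 0, -2, 2, 0, 0, 2, 0, -2, 2, 0, 0, 2, -2, 2, 2, -2, -2, -2, 0, -2, 0, 2],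
    [-2, -2, 0, -2, -2, 0, 0, -2, 0, 2, -2, 0, 0, -2, -2, 2, 2, -2, -2, 2, 0, -2, 0, -2],
    [-2, 2, 0, -2, -2, 0, 0, 2, 0, -2, -2, 0, 0, 2, 2, 2, 2, -2, 2, -2, 0, 2, 0, -2],
    [0, 0, 2, 0, 0, 2, -2, 0, -2, 0, 0, -2, 2, 0, 0, 0, 0, 0, 0, 0, -6, 0, -2, 0],
    [2, 2, 0, 2, 2, 0, 0, -2, 0, -2, -2, 0, 0, 2, 2, -2, 2, -2, -2, 2, 0, -2, 0, -2],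
    [0, 0, -2, 0, 0, -2, 2, 0, 2, 0, 0, 2, -2, 0, 0, 0, 0, 0, 0, 0, -2, 0, -6, 0],
    [-2, -2, 0, 2, -2, 0, 0, 2, 0, -2, -2, 0, 0, 2, -2, -2, -2, 2, -2, -2, 0, -2, 0, -2]]

/-- A matrix. -/
def GM : List (List ℤ) :=
  [[0, 2, 0, -2, -2, 2, 2, 2, 2, 0, 2, 0, 2, -2, -2, 2, 0, 0, -2, 0, -2, -2, -2, 0],
    [2, 4, 2, 0, 0, 0, 0, 0, 0, -2, -4, 2, 0, 0, 0, 0, 2, -2, 0, 2, 0, 0, 0, 2],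
    [0, 2, 0, 2, 2, -2, 2, -2, -2, 0, 2, 0, -2, -2, -2, 2, 0, 0, -2, 0, -2, 2, 2, 0],
    [-2, 0, 2, 4, 0, 0, 0, 0, 0, 2, 0, 2, 0, 0, 0, 0, 2, 2, 0, -2, 0, -4, 0, 2],
    [-2, 0, 2, 0, 4, 0, 0, 0, 4, 2, 0, -2, 0, 0, 0, 0, -2, -2, 0, 2, 0, 0, 0, 2],
    [2, 0, -2, 0, 0, 4, 0, 0, 0, 2, 0, -2, -4, 0, 0, 0, 2, 2, 0, 2, 0, 0, 0, 2],
    [2, 0, 2, 0, 0, 0, 4, 0, 0, 2, 0, -2, 0, 0, 0, 0, 2, -2, 4, -2, 0, 0, 0, -2],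
    [2, 0, -2, 0, 0, 0, 0, 4, 0, 2, 0, 2, 0, 0, 0, 0, -2, -2, 0, -2, 0, 0, 4, 2],
    [2, 0, -2, 0, 4, 0, 0, 0, 4, -2, 0, 2, 0, 0, 0, 0, 2, 2, 0, -2, 0, 0, 0, -2],
    [0, -2, 0, 2, 2, 2, 2, 2, -2, 0, -2, 0, 2, -2, -2, -2, 0, 0, -2, 0, 2, 2, -2, 0],
    [2, -4, 2, 0, 0, 0, 0, 0, 0, -2, 4, 2, 0, 0, 0, 0, 2, -2, 0, 2, 0, 0, 0, 2],
    [0, 2, 0, 2, -2, -2, -2, 2, 2, 0, 2, 0, -2, -2, -2, -2, 0, 0, 2, 0, 2, 2, -2, 0],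
    [2, 0, -2, 0, 0, -4, 0, 0, 0, 2, 0, -2, 4, 0, 0, 0, 2, 2, 0, 2, 0, 0, 0, 2],
    [-2, 0, -2, 0, 0, 0, 0, 0, 0, -2, 0, -2, 0, 4, -4, 0, 2, -2, 0, -2, 0, 0, 0, 2],
    [-2, 0, -2, 0, 0, 0, 0, 0, 0, -2, 0, -2, 0, -4, 4, 0, 2, -2, 0, -2, 0, 0, 0, 2],
    [2, 0, 2, 0, 0, 0, 0, 0, 0, -2, 0, -2, 0, 0, 0, 4, -2, 2, 0, -2, 4, 0, 0, 2],
    [0, 2, 0, 2, -2, 2, 2, -2, 2, 0, 2, 0, 2, 2, 2, -2, 0, 0, -2, 0, 2, 2, 2, 0],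
    [0, -2, 0, 2, -2, 2, -2, -2, 2, 0, -2, 0, 2, -2, -2, 2, 0, 0, 2, 0, -2, 2, 2, 0],
    [-2, 0, -2, 0, 0, 0, 4, 0, 0, -2, 0, 2, 0, 0, 0, 0, -2, 2, 4, 2, 0, 0, 0, 2],
    [0, 2, 0, -2, 2, 2, -2, -2, -2, 0, 2, 0, 2, -2, -2, -2, 0, 0, 2, 0, 2, -2, 2, 0],
    [-2, 0, -2, 0, 0, 0, 0, 0, 0, 2, 0, 2, 0, 0, 0, 4, 2, -2, 0, 2, 4, 0, 0, -2],
    [-2, 0, 2, -4, 0, 0, 0, 0, 0, 2, 0, 2, 0, 0, 0, 0, 2, 2, 0, -2, 0, 4, 0, 2],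
    [-2, 0, 2, 0, 0, 0, 0, 4, 0, -2, 0, -2, 0, 0, 0, 0, 2, 2, 0, 2, 0, 0, 4, -2],
    [0, 2, 0, 2, 2, 2, -2, 2, -2, 0, 2, 0, 2, 2, 2, 2, 0, 0, 2, 0, -2, 2, -2, 0]]

/-- Its transpose. -/
def GMT : List (List ℤ) :=
  [[0, 2, 0, -2, -2, 2, 2, 2, 2, 0, 2, 0, 2, -2, -2, 2, 0, 0, -2, 0, -2, -2, -2, 0],
    [2, 4, 2, 0, 0, 0, 0, 0, 0, -2, -4, 2, 0, 0, 0, 0, 2, -2, 0, 2, 0, 0, 0, 2],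
    [0, 2, 0, 2, 2, -2, 2, -2, -2, 0, 2, 0, -2, -2, -2, 2, 0, 0, -2, 0, -2, 2, 2, 0],
    [-2, 0, 2, 4, 0, 0, 0, 0, 0, 2, 0, 2, 0, 0, 0, 0, 2, 2, 0, -2, 0, -4, 0, 2],
    [-2, 0, 2, 0, 4, 0, 0, 0, 4, 2, 0, -2, 0, 0, 0, 0, -2, -2, 0, 2, 0, 0, 0, 2],
    [2, 0, -2, 0, 0, 4, 0, 0, 0, 2, 0, -2, -4, 0, 0, 0, 2, 2, 0, 2, 0, 0, 0, 2],
    [2, 0, 2, 0, 0, 0, 4, 0, 0, 2, 0, -2, 0, 0, 0, 0, 2, -2, 4, -2, 0, 0, 0, -2],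
    [2, 0, -2, 0, 0, 0, 0, 4, 0, 2, 0, 2, 0, 0, 0, 0, -2, -2, 0, -2, 0, 0, 4, 2],
    [2, 0, -2, 0, 4, 0, 0, 0, 4, -2, 0, 2, 0, 0, 0, 0, 2, 2, 0, -2, 0, 0, 0, -2],
    [0, -2, 0, 2, 2, 2, 2, 2, -2, 0, -2, 0, 2, -2, -2, -2, 0, 0, -2, 0, 2, 2, -2, 0],
    [2, -4, 2, 0, 0, 0, 0, 0, 0, -2, 4, 2, 0, 0, 0, 0, 2, -2, 0, 2, 0, 0, 0, 2],
    [0, 2, 0, 2, -2, -2, -2, 2, 2, 0, 2, 0, -2, -2, -2, -2, 0, 0, 2, 0, 2, 2, -2, 0],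
    [2, 0, -2, 0, 0, -4, 0, 0, 0, 2, 0, -2, 4, 0, 0, 0, 2, 2, 0, 2, 0, 0, 0, 2],
    [-2, 0, -2, 0, 0, 0, 0, 0, 0, -2, 0, -2, 0, 4, -4, 0, 2, -2, 0, -2, 0, 0, 0, 2],
    [-2, 0, -2, 0, 0, 0, 0, 0, 0, -2, 0, -2, 0, -4, 4, 0, 2, -2, 0, -2, 0, 0, 0, 2],
    [2, 0, 2, 0, 0, 0, 0, 0, 0, -2, 0, -2, 0, 0, 0, 4, -2, 2, 0, -2, 4, 0, 0, 2],
    [0, 2, 0, 2, -2, 2, 2, -2, 2, 0, 2, 0, 2, 2, 2, -2, 0, 0, -2, 0, 2, 2, 2, 0],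
    [0, -2, 0, 2, -2, 2, -2, -2, 2, 0, -2, 0, 2, -2, -2, 2, 0, 0, 2, 0, -2, 2, 2, 0],
    [-2, 0, -2, 0, 0, 0, 4, 0, 0, -2, 0, 2, 0, 0, 0, 0, -2, 2, 4, 2, 0, 0, 0, 2],
    [0, 2, 0, -2, 2, 2, -2, -2, -2, 0, 2, 0, 2, -2, -2, -2, 0, 0, 2, 0, 2, -2, 2, 0],
    [-2, 0, -2, 0, 0, 0, 0, 0, 0, 2, 0, 2, 0, 0, 0, 4, 2, -2, 0, 2, 4, 0, 0, -2],
    [-2, 0, 2, -4, 0, 0, 0, 0, 0, 2, 0, 2, 0, 0, 0, 0, 2, 2, 0, -2, 0, 4, 0, 2],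
    [-2, 0, 2, 0, 0, 0, 0, 4, 0, -2, 0, -2, 0, 0, 0, 0, 2, 2, 0, 2, 0, 0, 4, -2],
    [0, 2, 0, 2, 2, 2, -2, 2, -2, 0, 2, 0, 2, 2, 2, 2, 0, 0, 2, 0, -2, 2, -2, 0]]

/-- A matrix. -/
def omM : List (List ℤ) :=
  [[-4, 0, 0, 0, 4, 0, 0, 0, 0, 0, 0, 4, 0, 0, 0, 0, 0, 0, 0, 0, 0, -4, 0, 0],
    [0, -4, -4, 0, 0, 0, 0, 0, 0, 0, 0, 0, 0, 0, 0, -4, 0, -4, 0, 0, 0, 0, 0, 0],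
    [0, 4, -4, 0, 0, 0, 0, 0, 0, 0, 0, 0, 0, 0, 0, -4, 0, 4, 0, 0, 0, 0, 0, 0],
    [0, 0, 0, -4, 0, 0, 0, 0, 0, 0, -4, 0, 0, 4, 0, 0, 0, 0, 0, 0, 0, 0, 4, 0],
    [-4, 0, 0, 0, -4, 0, 0, 0, 0, 0, 0, 4, 0, 0, 0, 0, 0, 0, 0, 0, 0, 4, 0, 0],
    [0, 0, 0, 0, 0, -4, 0, 0, 4, 0, 0, 0, 0, 0, 0, 0, 0, 0, -4, 0, 4, 0, 0, 0],
    [0, 0, 0, 0, 0, 0, -4, 0, 0, 4, 0, 0, 0, 0, -4, 0, 0, 0, 0, 4, 0, 0, 0, 0],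
    [0, 0, 0, 0, 0, 0, 0, -4, 0, 0, 0, 0, -4, 0, 0, 0, -4, 0, 0, 0, 0, 0, 0, -4],
    [0, 0, 0, 0, 0, -4, 0, 0, -4, 0, 0, 0, 0, 0, 0, 0, 0, 0, 4, 0, 4, 0, 0, 0],
    [0, 0, 0, 0, 0, 0, -4, 0, 0, -4, 0, 0, 0, 0, -4, 0, 0, 0, 0, -4, 0, 0, 0, 0],
    [0, 0, 0, 4, 0, 0, 0, 0, 0, 0, -4, 0, 0, -4, 0, 0, 0, 0, 0, 0, 0, 0, 4, 0],
    [-4, 0, 0, 0, -4, 0, 0, 0, 0, 0, 0, -4, 0, 0, 0, 0, 0, 0, 0, 0, 0, -4, 0, 0],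
    [0, 0, 0, 0, 0, 0, 0, 4, 0, 0, 0, 0, -4, 0, 0, 0, -4, 0, 0, 0, 0, 0, 0, 4],
    [0, 0, 0, -4, 0, 0, 0, 0, 0, 0, 4, 0, 0, -4, 0, 0, 0, 0, 0, 0, 0, 0, 4, 0],
    [0, 0, 0, 0, 0, 0, 4, 0, 0, 4, 0, 0, 0, 0, -4, 0, 0, 0, 0, -4, 0, 0, 0, 0],
    [0, 4, 4, 0, 0, 0, 0, 0, 0, 0, 0, 0, 0, 0, 0, -4, 0, -4, 0, 0, 0, 0, 0, 0],
    [0, 0, 0, 0, 0, 0, 0, 4, 0, 0, 0, 0, 4, 0, 0, 0, -4, 0, 0, 0, 0, 0, 0, -4],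
    [0, 4, -4, 0, 0, 0, 0, 0, 0, 0, 0, 0, 0, 0, 0, 4, 0, -4, 0, 0, 0, 0, 0, 0],
    [0, 0, 0, 0, 0, 4, 0, 0, -4, 0, 0, 0, 0, 0, 0, 0, 0, 0, -4, 0, 4, 0, 0, 0],
    [0, 0, 0, 0, 0, 0, -4, 0, 0, 4, 0, 0, 0, 0, 4, 0, 0, 0, 0, -4, 0, 0, 0, 0],
    [0, 0, 0, 0, 0, -4, 0, 0, -4, 0, 0, 0, 0, 0, 0, 0, 0, 0, -4, 0, -4, 0, 0, 0],
    [4, 0, 0, 0, -4, 0, 0, 0, 0, 0, 0, 4, 0, 0, 0, 0, 0, 0, 0, 0, 0, -4, 0, 0],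
    [0, 0, 0, -4, 0, 0, 0, 0, 0, 0, -4, 0, 0, -4, 0, 0, 0, 0, 0, 0, 0, 0, -4, 0],
    [0, 0, 0, 0, 0, 0, 0, 4, 0, 0, 0, 0, -4, 0, 0, 0, 4, 0, 0, 0, 0, 0, 0, -4]]

/-- Its transpose. -/
def omMT : List (List ℤ) :=
  [[-4, 0, 0, 0, -4, 0, 0, 0, 0, 0, 0, -4, 0, 0, 0, 0, 0, 0, 0, 0, 0, 4, 0, 0],
    [0, -4, 4, 0, 0, 0, 0, 0, 0, 0, 0, 0, 0, 0, 0, 4, 0, 4, 0, 0, 0, 0, 0, 0],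
    [0, -4, -4, 0, 0, 0, 0, 0, 0, 0, 0, 0, 0, 0, 0, 4, 0, -4, 0, 0, 0, 0, 0, 0],
    [0, 0, 0, -4, 0, 0, 0, 0, 0, 0, 4, 0, 0, -4, 0, 0, 0, 0, 0, 0, 0, 0, -4, 0],
    [4, 0, 0, 0, -4, 0, 0, 0, 0, 0, 0, -4, 0, 0, 0, 0, 0, 0, 0, 0, 0, -4, 0, 0],
    [0, 0, 0, 0, 0, -4, 0, 0, -4, 0, 0, 0, 0, 0, 0, 0, 0, 0, 4, 0, -4, 0, 0, 0],
    [0, 0, 0, 0, 0, 0, -4, 0, 0, -4, 0, 0, 0, 0, 4, 0, 0, 0, 0, -4, 0, 0, 0, 0],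
    [0, 0, 0, 0, 0, 0, 0, -4, 0, 0, 0, 0, 4, 0, 0, 0, 4, 0, 0, 0, 0, 0, 0, 4],
    [0, 0, 0, 0, 0, 4, 0, 0, -4, 0, 0, 0, 0, 0, 0, 0, 0, 0, -4, 0, -4, 0, 0, 0],
    [0, 0, 0, 0, 0, 0, 4, 0, 0, -4, 0, 0, 0, 0, 4, 0, 0, 0, 0, 4, 0, 0, 0, 0],
    [0, 0, 0, -4, 0, 0, 0, 0, 0, 0, -4, 0, 0, 4, 0, 0, 0, 0, 0, 0, 0, 0, -4, 0],
    [4, 0, 0, 0, 4, 0, 0, 0, 0, 0, 0, -4, 0, 0, 0, 0, 0, 0, 0, 0, 0, 4, 0, 0],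
    [0, 0, 0, 0, 0, 0, 0, -4, 0, 0, 0, 0, -4, 0, 0, 0, 4, 0, 0, 0, 0, 0, 0, -4],
    [0, 0, 0, 4, 0, 0, 0, 0, 0, 0, -4, 0, 0, -4, 0, 0, 0, 0, 0, 0, 0, 0, -4, 0],
    [0, 0, 0, 0, 0, 0, -4, 0, 0, -4, 0, 0, 0, 0, -4, 0, 0, 0, 0, 4, 0, 0, 0, 0],
    [0, -4, -4, 0, 0, 0, 0, 0, 0, 0, 0, 0, 0, 0, 0, -4, 0, 4, 0, 0, 0, 0, 0, 0],
    [0, 0, 0, 0, 0, 0, 0, -4, 0, 0, 0, 0, -4, 0, 0, 0, -4, 0, 0, 0, 0, 0, 0, 4],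
    [0, -4, 4, 0, 0, 0, 0, 0, 0, 0, 0, 0, 0, 0, 0, -4, 0, -4, 0, 0, 0, 0, 0, 0],
    [0, 0, 0, 0, 0, -4, 0, 0, 4, 0, 0, 0, 0, 0, 0, 0, 0, 0, -4, 0, -4, 0, 0, 0],
    [0, 0, 0, 0, 0, 0, 4, 0, 0, -4, 0, 0, 0, 0, -4, 0, 0, 0, 0, -4, 0, 0, 0, 0],
    [0, 0, 0, 0, 0, 4, 0, 0, 4, 0, 0, 0, 0, 0, 0, 0, 0, 0, 4, 0, -4, 0, 0, 0],
    [-4, 0, 0, 0, 4, 0, 0, 0, 0, 0, 0, -4, 0, 0, 0, 0, 0, 0, 0, 0, 0, -4, 0, 0],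
    [0, 0, 0, 4, 0, 0, 0, 0, 0, 0, 4, 0, 0, 4, 0, 0, 0, 0, 0, 0, 0, 0, -4, 0],
    [0, 0, 0, 0, 0, 0, 0, -4, 0, 0, 0, 0, 4, 0, 0, 0, -4, 0, 0, 0, 0, 0, 0, -4]]

/-- A matrix. -/
def uM : List (List ℤ) :=
  [[0, 0, -2, 0, -2, 0, 0, 2, -2, -2, -2, -2, 0, 0, -2, -2, 2, 0, -2, 0, 0, 4, 2, 0],
    [0, 0, 2, 0, -2, 0, 0, 2, 2, 2, 2, -2, 0, 0, -2, 2, -2, 4, -2, 0, 0, 0, 2, 0],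
    [2, -2, 0, -2, 0, -2, -2, 0, 0, 0, 0, 0, -2, -2, 0, 4, 0, -2, 0, 2, 2, 2, 0, 2],
    [0, 0, 2, 0, -2, 0, 0, 2, -2, -2, 2, -2, 0, -4, 2, -2, -2, 0, 2, 0, 0, 0, -2, 0],
    [2, 2, 0, 2, 0, -2, 2, 0, 0, 0, 0, -4, -2, 2, 0, 0, 0, -2, 0, -2, 2, -2, 0, 2],
    [0, 0, 2, 0, 2, 0, 0, 2, -2, 2, -2, -2, 0, 0, 2, 2, 2, 0, 2, 0, -4, 0, 2, 0],
    [0, 0, 2, 0, -2, 0, 0, -2, -2, -2, -2, 2, 0, 0, 2, 2, -2, 0, -2, -4, 0, 0, 2, 0],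
    [-2, -2, 0, -2, 0, -2, 2, 0, 0, 0, 0, 0, 2, -2, 0, 0, 4, 2, 0, -2, 2, -2, 0, 2],
    [2, -2, 0, 2, 0, 2, 2, 0, 0, 0, 0, 0, 2, -2, 0, 0, 0, -2, -4, 2, -2, -2, 0, 2],
    [2, -2, 0, 2, 0, -2, 2, 0, 0, 0, 0, 0, 2, 2, 4, 0, 0, 2, 0, 2, 2, 2, 0, -2],
    [2, -2, 0, -2, 0, 2, 2, 0, 0, 0, 0, 0, -2, 2, 0, 0, 0, 2, 0, -2, -2, 2, -4, 2],
    [2, 2, 0, 2, 4, 2, -2, 0, 0, 0, 0, 0, 2, -2, 0, 0, 0, 2, 0, -2, 2, 2, 0, 2],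
    [0, 0, 2, 0, 2, 0, 0, -2, -2, -2, 2, -2, 0, 0, -2, 2, 2, 0, -2, 0, 0, 0, -2, -4],
    [0, 0, 2, 4, -2, 0, 0, 2, 2, -2, -2, 2, 0, 0, -2, 2, 2, 0, 2, 0, 0, 0, -2, 0],
    [2, 2, 0, -2, 0, -2, -2, 0, 0, -4, 0, 0, 2, 2, 0, 0, 0, 2, 0, 2, -2, -2, 0, 2],
    [2, -2, -4, 2, 0, -2, -2, 0, 0, 0, 0, 0, -2, -2, 0, 0, 0, 2, 0, -2, -2, -2, 0, -2],
    [-2, 2, 0, 2, 0, -2, 2, -4, 0, 0, 0, 0, -2, -2, 0, 0, 0, 2, 0, 2, -2, 2, 0, 2],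
    [0, -4, 2, 0, 2, 0, 0, -2, 2, -2, -2, -2, 0, 0, -2, -2, -2, 0, 2, 0, 0, 0, 2, 0],
    [2, 2, 0, -2, 0, -2, 2, 0, 4, 0, 0, 0, 2, -2, 0, 0, 0, -2, 0, -2, -2, 2, 0, -2],
    [0, 0, -2, 0, 2, 0, 4, 2, -2, -2, 2, 2, 0, 0, -2, 2, -2, 0, 2, 0, 0, 0, 2, 0],
    [0, 0, -2, 0, -2, 4, 0, -2, 2, -2, 2, -2, 0, 0, 2, 2, 2, 0, 2, 0, 0, 0, 2, 0],
    [-4, 0, -2, 0, 2, 0, 0, 2, 2, -2, -2, -2, 0, 0, 2, 2, -2, 0, -2, 0, 0, 0, -2, 0],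
    [-2, -2, 0, 2, 0, -2, -2, 0, 0, 0, 4, 0, 2, 2, 0, 0, 0, -2, 0, -2, -2, 2, 0, 2],
    [0, 0, -2, 0, -2, 0, 0, -2, -2, 2, -2, -2, 4, 0, -2, 2, -2, 0, 2, 0, 0, 0, -2, 0]]

/-- Its transpose. -/
def uMT : List (List ℤ) :=
  [[0, 0, 2, 0, 2, 0, 0, -2, 2, 2, 2, 2, 0, 0, 2, 2, -2, 0, 2, 0, 0, -4, -2, 0],
    [0, 0, -2, 0, 2, 0, 0, -2, -2, -2, -2, 2, 0, 0, 2, -2, 2, -4, 2, 0, 0, 0, -2, 0],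
    [-2, 2, 0, 2, 0, 2, 2, 0, 0, 0, 0, 0, 2, 2, 0, -4, 0, 2, 0, -2, -2, -2, 0, -2],
    [0, 0, -2, 0, 2, 0, 0, -2, 2, 2, -2, 2, 0, 4, -2, 2, 2, 0, -2, 0, 0, 0, 2, 0],
    [-2, -2, 0, -2, 0, 2, -2, 0, 0, 0, 0, 4, 2, -2, 0, 0, 0, 2, 0, 2, -2, 2, 0, -2],
    [0, 0, -2, 0, -2, 0, 0, -2, 2, -2, 2, 2, 0, 0, -2, -2, -2, 0, -2, 0, 4, 0, -2, 0],
    [0, 0, -2, 0, 2, 0, 0, 2, 2, 2, 2, -2, 0, 0, -2, -2, 2, 0, 2, 4, 0, 0, -2, 0],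
    [2, 2, 0, 2, 0, 2, -2, 0, 0, 0, 0, 0, -2, 2, 0, 0, -4, -2, 0, 2, -2, 2, 0, -2],
    [-2, 2, 0, -2, 0, -2, -2, 0, 0, 0, 0, 0, -2, 2, 0, 0, 0, 2, 4, -2, 2, 2, 0, -2],
    [-2, 2, 0, -2, 0, 2, -2, 0, 0, 0, 0, 0, -2, -2, -4, 0, 0, -2, 0, -2, -2, -2, 0, 2],
    [-2, 2, 0, 2, 0, -2, -2, 0, 0, 0, 0, 0, 2, -2, 0, 0, 0, -2, 0, 2, 2, -2, 4, -2],
    [-2, -2, 0, -2, -4, -2, 2, 0, 0, 0, 0, 0, -2, 2, 0, 0, 0, -2, 0, 2, -2, -2, 0, -2],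
    [0, 0, -2, 0, -2, 0, 0, 2, 2, 2, -2, 2, 0, 0, 2, -2, -2, 0, 2, 0, 0, 0, 2, 4],
    [0, 0, -2, -4, 2, 0, 0, -2, -2, 2, 2, -2, 0, 0, 2, -2, -2, 0, -2, 0, 0, 0, 2, 0],
    [-2, -2, 0, 2, 0, 2, 2, 0, 0, 4, 0, 0, -2, -2, 0, 0, 0, -2, 0, -2, 2, 2, 0, -2],
    [-2, 2, 4, -2, 0, 2, 2, 0, 0, 0, 0, 0, 2, 2, 0, 0, 0, -2, 0, 2, 2, 2, 0, 2],
    [2, -2, 0, -2, 0, 2, -2, 4, 0, 0, 0, 0, 2, 2, 0, 0, 0, -2, 0, -2, 2, -2, 0, -2],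
    [0, 4, -2, 0, -2, 0, 0, 2, -2, 2, 2, 2, 0, 0, 2, 2, 2, 0, -2, 0, 0, 0, -2, 0],
    [-2, -2, 0, 2, 0, 2, -2, 0, -4, 0, 0, 0, -2, 2, 0, 0, 0, 2, 0, 2, 2, -2, 0, 2],
    [0, 0, 2, 0, -2, 0, -4, -2, 2, 2, -2, -2, 0, 0, 2, -2, 2, 0, -2, 0, 0, 0, -2, 0],
    [0, 0, 2, 0, 2, -4, 0, 2, -2, 2, -2, 2, 0, 0, -2, -2, -2, 0, -2, 0, 0, 0, -2, 0],
    [4, 0, 2, 0, -2, 0, 0, -2, -2, 2, 2, 2, 0, 0, -2, -2, 2, 0, 2, 0, 0, 0, 2, 0],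
    [2, 2, 0, -2, 0, 2, 2, 0, 0, 0, -4, 0, -2, -2, 0, 0, 0, 2, 0, 2, 2, -2, 0, -2],
    [0, 0, 2, 0, 2, 0, 0, 2, 2, -2, 2, 2, -4, 0, 2, -2, 2, 0, -2, 0, 0, 0, 2, 0]]

/-- Words whose commutator is the central element of order 3. -/
def comOm : List ℕ × List ℕ := ([0, 1, 2, 3, 2, 1, 4, 3, 2, 3, 4, 5, 1, 0, 2, 1, 3, 2, 3, 4, 2, 1, 0, 1, 2, 3, 2, 0, 6, 1, 0, 2, 1, 3, 2, 1, 3, 4, 3, 5, 1, 2], [0, 1, 4, 3, 2, 1, 3, 2, 3, 4, 5, 1, 0, 2, 3, 2, 1, 5, 4, 2, 6, 1, 0, 1, 2, 1, 3, 2, 4, 3, 2, 5, 1, 2, 6])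

/-- Words whose commutator is negation. -/
def comNeg : List ℕ × List ℕ := ([1, 3, 2, 1, 3, 5, 1, 2, 3, 2, 1, 0, 4, 3, 2, 5, 1, 0, 1, 5, 3, 2, 3, 4, 3, 1, 2, 6, 1, 0, 2, 1, 3, 2, 4, 5, 1, 6], [2, 5, 1, 0, 2, 1, 3, 2, 4, 3, 2, 3, 5, 1, 0, 1, 5, 4, 2, 3, 2, 3, 1, 2, 0, 1, 5, 1, 2, 1, 6, 1, 0, 2, 1, 3, 2, 4, 3, 2, 5, 1, 2, 6, 1, 0])

/-- Words in the first six generators whose commutator is negation. -/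
def comNegY : List ℕ × List ℕ := ([2, 3, 2, 1, 0, 4, 3, 2, 5, 1, 2, 3, 2, 4, 3, 2, 3, 1, 2, 0, 1, 5, 4, 3, 1, 2, 3, 1], [0, 1, 2, 3, 2, 5, 1, 2, 3, 2, 1, 0, 4, 3, 2, 1, 5, 2, 3, 4, 1, 2, 3, 0, 1, 2, 3, 4, 3])

end CfsgLib.SchurSuz
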