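import Cfsg.Agent.Lib.Leech.Triangle.MatEl
import Cfsg.Agent.Lib.Schur.CoThree.Eval
import Cfsg.Agent.Lib.Schur.Suz.PrimData

/-!
Elements of Co0 generating 6.Suz and 2.G2(4), from checked matrices, with their packed columns.
-/

set_option autoImplicit false
set_option maxRecDepth 100000

namespace CfsgLib.SchurSuz

open Cfsg CfsgLib CfsgLib.Leech CfsgLib.Leech.Stab CfsgLib.Leech.Aut CfsgLib.SchurLeech
open CfsgLib.Leech.Triangle (elB colsB colsOf matEl matEl_valid)

/-- The columns of negation, computed. -/
def negC : List ℕ := (List.range 24).map fun j => packL (lin (listOf (-(e8 (Golay.pt j)))))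

theorem valid_neg : Valid negEl negC := by
  refine valid_iff.2 ⟨by simp [negC], fun i h => ?_⟩
  simp only [negC, List.getElem_map, List.getElem_range, coe_negEl_smul]
  exact rep_packL (by rw [sqNorm_neg]; exact (sqNorm_e8 _).le.trans (by norm_num))

/-- The matrices with their transposes: seven generators, the central element and an element of the
centraliser of the first six. -/
def mats : List (List (List ℤ) × List (List ℤ)) :=
  [(AM, AMT), (BM, BMT), (CM, CMT), (DM, DMT), (EM, EMT), (FM, FMT), (GM, GMT), (omM, omMT), (uM, uMT)]

theorem mats_ok : (mats.all fun q => elB q.1 q.2 && colsB q.1) = true := by decide +kernel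

theorem exists_mat (i : Fin 9) :
    ∃ g : Co0, Valid g (colsOf (mats.getD i ([], [])).1) := by
  have h := List.all_eq_true.1 mats_ok _ (List.getElem_mem (h := show (i : ℕ) < mats.length from i.2))
  rw [List.getD_eq_getElem _ _ (show (i : ℕ) < mats.length from i.2)]
  simp only [Bool.and_eq_true] at h
  exact ⟨matEl h.1, matEl_valid h.1 h.2⟩

/-- The columns of the nine elements and negation: generators, central element, negation. -/
def colsX : List (List ℕ) :=
  [colsOf AM, colsOf BM, colsOf CM, colsOf DM, colsOf EM, colsOf FM, colsOf GM, colsOf omM, negC]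

/-- The columns of the generators of the double cover of G2(4). -/
def colsY : List (List ℕ) := [colsOf AM, colsOf BM, colsOf CM, colsOf DM, colsOf EM, colsOf FM, negC]

/-- The elements. -/
noncomputable def elX : ℕ → Co0
  | 0 => (exists_mat 0).choose
  | 1 => (exists_mat 1).choose
  | 2 => (exists_mat 2).choose
  | 3 => (exists_mat 3).choose
  | 4 => (exists_mat 4).choose
  | 5 => (exists_mat 5).choose
  | 6 => (exists_mat 6).choose
  | 7 => (exists_mat 7).choose
  | _ => negEl

/-- The elements generating the double cover of G2(4). -/
noncomputable def elY (a : ℕ) : Co0 := elX (bif Nat.blt a 6 then a else 8)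

/-- An element commuting with the first six generators. -/
noncomputable def uEl : Co0 := (exists_mat 8).choose

/-- The columns of `uEl`. -/
def uC : List ℕ := colsOf uM

theorem valid_u : Valid uEl uC := (exists_mat 8).choose_spec

theorem valid_X : ∀ a < colsX.length, Valid (elX a) (colsX.getD a idC) := by
  intro a ha
  have h : a < 9 := ha
  interval_cases a
  · exact (exists_mat 0).choose_spec
  · exact (exists_mat 1).choose_spec
  · exact (exists_mat 2).choose_spec
  · exact (exists_mat 3).choose_spec
  · exact (exists_mat 4).choose_spec
  · exact (exists_mat 5).choose_spec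
  · exact (exists_mat 6).choose_spec
  · exact (exists_mat 7).choose_spec
  · exact valid_neg

theorem valid_Y : ∀ a < colsY.length, Valid (elY a) (colsY.getD a idC) := by
  intro a ha
  have h : a < 7 := ha
  interval_cases a
  · exact (exists_mat 0).choose_spec
  · exact (exists_mat 1).choose_spec
  · exact (exists_mat 2).choose_spec
  · exact (exists_mat 3).choose_spec
  · exact (exists_mat 4).choose_spec
  · exact (exists_mat 5).choose_spec
  · exact valid_neg

end CfsgLib.SchurSuz
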