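import Cfsg.Agent.Lib.Schur.Suz.Eval
import Cfsg.Agent.Lib.Schur.Suz.Prim
import Cfsg.Agent.Lib.Schur.Suz.DataX2

/-!
Kernel checks of the certificate over a Sylow 2-subgroup.
-/

set_option autoImplicit false
set_option maxRecDepth 100000

namespace CfsgLib.SchurSuz

theorem checkX2 : certX2.check 2 = true := by decide +kernel

theorem dataX2 : dataOK colsX lettersX2 lcolsX2 siftX2 certX2 (2 ^ certX2.m) = true := by decide +kernel

end CfsgLib.SchurSuz
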