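import Cfsg.Agent.Lib.Schur.Suz.Eval
import Cfsg.Agent.Lib.Schur.Suz.Prim
import Cfsg.Agent.Lib.Schur.Suz.DataX3

/-!
Kernel checks of the certificate over a Sylow 3-subgroup.
-/

set_option autoImplicit false
set_option maxRecDepth 100000

namespace CfsgLib.SchurSuz

theorem checkX3 : certX3.check 3 = true := by decide +kernel

theorem dataX3 : dataOK colsX lettersX3 lcolsX3 siftX3 certX3 (3 ^ certX3.m) = true := by decide +kernel

end CfsgLib.SchurSuz
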