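import Cfsg.Agent.Lib.Schur.Suz.Eval
import Cfsg.Agent.Lib.Schur.Suz.Prim
import Cfsg.Agent.Lib.Schur.Suz.DataY3

/-!
Kernel checks of the certificate over a Sylow 3-subgroup.
-/

set_option autoImplicit false
set_option maxRecDepth 100000

namespace CfsgLib.SchurSuz

theorem checkY3 : certY3.check 3 = true := by decide +kernel

theorem dataY3 : dataOK colsY lettersY3 lcolsY3 siftY3 certY3 (3 ^ certY3.m) = true := by decide +kernel

end CfsgLib.SchurSuz
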