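import Cfsg.Agent.Lib.Schur.Suz.Eval
import Cfsg.Agent.Lib.Schur.Suz.Prim
import Cfsg.Agent.Lib.Schur.Suz.DataY5

/-!
Kernel checks of the certificate over a Sylow 5-subgroup.
-/

set_option autoImplicit false
set_option maxRecDepth 100000

namespace CfsgLib.SchurSuz

theorem checkY5 : certY5.check 5 = true := by decide +kernel

theorem dataY5 : dataOK colsY lettersY5 lcolsY5 siftY5 certY5 (5 ^ certY5.m) = true := by decide +kernel

end CfsgLib.SchurSuz
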