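import Cfsg.Agent.Lib.Schur.CoThree.Eval
import Cfsg.Agent.Lib.Schur.PathCert

/-!
Checked splitting data over Sylow subgroups of a subgroup of Co0 given by packed columns: the order of
the Sylow subgroup is bounded below through orbits along a list of lattice vectors.
-/

set_option autoImplicit false

namespace CfsgLib.SchurSuz

open Cfsg CfsgLib CfsgLib.Leech CfsgLib.Leech.Stab CfsgLib.Leech.Aut CfsgLib.SchurLeech

/-- The words fix a packed vector. -/
def fixB (L : List (List ℕ)) (n : ℕ) (ws : List (List ℕ)) : Bool :=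
  ws.all fun w => vecB L w n && Nat.beq (evalV L w n) n

/-- Orbit data along a list of vectors: distinct images, and all later words fix the vector. -/
def siftB (L : List (List ℕ)) (m : ℕ) : List (ℕ × List (List ℕ)) → Bool
  | [] => true
  | (n, ws) :: rest =>
    latB n && (ws.all fun w => (w.all fun a => Nat.blt a m) && vecB L w n) &&
      incr (ws.map fun w => evalV L w n) && fixB L n (rest.flatMap Prod.snd) && siftB L m rest

/-- The product of the orbit lengths. -/
def siftN : List (ℕ × List (List ℕ)) → ℕ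
  | [] => 1
  | (_, ws) :: rest => ws.length * siftN rest

/-- The checks of the data at one prime against the group. -/
def dataOK (P W L : List (List ℕ)) (sift : List (ℕ × List (List ℕ))) (C : SchurPath.Cert) (q : ℕ) : Bool :=
  (Nat.beq W.length L.length && (List.range W.length).all fun i =>
    evalB P (W.getD i []) && eqC (evalC P (W.getD i [])) (L.getD i idC)) &&
  (C.rels.all fun r => evalB L r.1 && evalB L r.2 && eqC (evalC L r.1) (evalC L r.2)) &&
  siftB L C.m sift && Nat.ble q (siftN sift) && Nat.ble C.m L.length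

theorem sqNorm_of_latB {n : ℕ} (h : latB n = true) : sqNorm (lat n : GolayPt → ℤ) ≤ 80 :=
  (listOf_lat h).2.2

/-- Orbit data bound the order of a finite subgroup from below. -/
theorem sift_le_card {L : List (List ℕ)} (e : ℕ → Co0) (he : ∀ a < L.length, Valid (e a) (L.getD a idC)) {m : ℕ} :
    ∀ (lv : List (ℕ × List (List ℕ))) (S : Subgroup Co0) [Finite S], siftB L m lv = true →
      (∀ w ∈ lv.flatMap Prod.snd, SchurPath.wv e w ∈ S) → siftN lv ≤ Nat.card S
  | [], S, _, _, _ => by
    show 1 ≤ _
    exact Nat.card_pos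
  | (n, ws) :: rest, S, _, h, hmem => by
    classical
    simp only [siftB, Bool.and_eq_true, List.all_eq_true] at h
    obtain ⟨⟨⟨⟨hn, hws⟩, hincr⟩, hfix⟩, hrest⟩ := h
    have hv : sqNorm (lat n : GolayPt → ℤ) ≤ 80 := sqNorm_of_latB hn
    have hr : Stab.Rep (lat n : GolayPt → ℤ) n := (listOf_lat hn).2.1
    set S' : Subgroup Co0 := S ⊓ MulAction.stabilizer Co0 (lat n) with hS'
    have hfin : Finite S' := Finite.of_injective _ (Subgroup.inclusion_injective (inf_le_left : S' ≤ S))
    have hmem' : ∀ w ∈ rest.flatMap Prod.snd, SchurPath.wv e w ∈ S' := by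
      intro w hw
      refine ⟨hmem w (by simp only [List.flatMap_cons, List.mem_append]; exact Or.inr hw), ?_⟩
      simp only [fixB, List.all_eq_true, Bool.and_eq_true, Nat.beq_eq] at hfix
      obtain ⟨h1, h2⟩ := hfix w hw
      have e1 := rep_evalV e he hv w n hr h1
      rw [h2] at e1
      refine MulAction.mem_stabilizer_iff.2 (Subtype.ext (rep_inj e1 hr ?_ hv))
      rw [sqNorm_smul]; exact hv
    have ih := sift_le_card e he rest S' hrest hmem'
    have hT : ∀ j : Fin ws.length, SchurPath.wv e ws[(j : ℕ)] ∈ S := fun j =>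
      hmem _ (by simp only [List.flatMap_cons, List.mem_append]; exact Or.inl (List.getElem_mem j.2))
    let f : Fin ws.length × S' → S := fun p =>
      ⟨SchurPath.wv e ws[(p.1 : ℕ)] * (p.2 : Co0), mul_mem (hT p.1) p.2.2.1⟩
    have hnd : (ws.map fun w => evalV L w n).Nodup :=
      (incr_pairwise _ hincr).imp fun hab => Nat.ne_of_lt hab
    have hf : Function.Injective f := by
      rintro ⟨j, s⟩ ⟨k, t⟩ h
      have hjk : SchurPath.wv e ws[(j : ℕ)] * (s : Co0) = SchurPath.wv e ws[(k : ℕ)] * (t : Co0) :=
        congrArg (fun x : S => (x : Co0)) h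
      have hv' : SchurPath.wv e ws[(j : ℕ)] • lat n = SchurPath.wv e ws[(k : ℕ)] • lat n := by
        have := congrArg (fun g : Co0 => g • lat n) hjk
        simp only [mul_smul, MulAction.mem_stabilizer_iff.1 s.2.2, MulAction.mem_stabilizer_iff.1 t.2.2] at this
        exact this
      have e1 := rep_evalV e he hv _ n hr (hws _ (List.getElem_mem j.2)).2
      have e2 := rep_evalV e he hv _ n hr (hws _ (List.getElem_mem k.2)).2
      rw [hv'] at e1
      have e3 : colZ (evalV L ws[(j : ℕ)] n) = colZ (evalV L ws[(k : ℕ)] n) := e1.symm.trans e2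
      simp only [colZ] at e3
      have hjk' : j = k := Fin.ext ((List.Nodup.getElem_inj_iff hnd (hi := by simp) (hj := by simp)).1
        (by simp only [List.getElem_map]; omega))
      subst hjk'
      exact Prod.ext rfl (Subtype.ext (mul_left_cancel hjk))
    have := Nat.card_le_card_of_injective f hf
    rw [Nat.card_prod, Nat.card_fin] at this
    exact le_trans (Nat.mul_le_mul_left _ ih) this

theorem coe_wv {K : Subgroup Co0} (e : ℕ → K) :
    ∀ w, ((SchurPath.wv e w : K) : Co0) = SchurPath.wv (fun a => (e a : Co0)) w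
  | [] => rfl
  | a :: w => by
    show (e a : Co0) * ((SchurPath.wv e w : K) : Co0) = _
    rw [coe_wv e w]
    rfl

/-- The certificate at one prime, applied to a finite subgroup of Co0. -/
theorem not_dvd_of_data {K : Subgroup Co0} [Finite K] (P : List (List ℕ)) (e₀ : ℕ → Co0)
    (he₀ : ∀ a < P.length, Valid (e₀ a) (P.getD a idC) ∧ e₀ a ∈ K)
    (W L : List (List ℕ)) (sift : List (ℕ × List (List ℕ))) (C : SchurPath.Cert)
    {p : ℕ} [Fact p.Prime] (hC : C.check p = true) (hD : dataOK P W L sift C (p ^ C.m) = true) {N i : ℕ}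
    (hN : Nat.card K = N) (hNi : N = p ^ C.m * i) (hi : ¬ p ∣ i) {Γ : Type*} [Group Γ] [Finite Γ]
    (σ : Γ →* K) (hσ : Function.Surjective σ) (hc : σ.ker ≤ Subgroup.center Γ)
    (hd : σ.ker ≤ commutator Γ) : ¬ p ∣ Nat.card σ.ker := by
  classical
  simp only [dataOK, Bool.and_eq_true, Nat.beq_eq, Nat.ble_eq, List.all_eq_true, List.mem_range] at hD
  obtain ⟨⟨⟨⟨⟨hWL, hlet⟩, hR⟩, hsift⟩, hlen⟩, hm⟩ := hD
  have hex : ∀ a, ∃ g : K, a < L.length → Valid (g : Co0) (L.getD a idC) := by
    intro a
    by_cases ha : a < L.length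
    · obtain ⟨h1, h2⟩ := hlet a (hWL ▸ ha)
      have hv := valid_evalC e₀ (fun b hb => (he₀ b hb).1) _ h1
      rw [eqC_iff.1 h2] at hv
      refine ⟨⟨_, ?_⟩, fun _ => hv⟩
      refine list_prod_mem fun x hx => ?_
      obtain ⟨b, hb, rfl⟩ := List.mem_map.1 hx
      exact (he₀ b (evalB_lt h1 b hb)).2
    · exact ⟨1, fun h => absurd h ha⟩
  choose e he using hex
  refine SchurPath.not_dvd_card_ker_of_check C hC e ?_ ?_ hN hNi hi σ hσ hc hd
  · intro r hr
    obtain ⟨⟨h1, h2⟩, h3⟩ := hR _ (List.getElem_mem hr)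
    rw [List.getD_eq_getElem _ _ hr]
    refine Subtype.ext ?_
    rw [coe_wv, coe_wv]
    exact eq_of_eqC (valid_evalC (fun a => (e a : Co0)) he _ h1)
      (valid_evalC (fun a => (e a : Co0)) he _ h2) h3
  · set S := Subgroup.closure {x | ∃ a < C.m, e a = x}
    have hfin : Finite (S.map K.subtype) :=
      Finite.of_surjective _ (K.subtype.subgroupMap_surjective S)
    have hle := sift_le_card (fun a => (e a : Co0)) he sift (S.map K.subtype) hsift (fun w hw => ?_)
    · rw [Subgroup.card_subtype] at hle
      exact hlen.trans hle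
    · rw [← coe_wv]
      refine Subgroup.mem_map_of_mem _ (list_prod_mem fun x hx => ?_)
      obtain ⟨a, ha, rfl⟩ := List.mem_map.1 hx
      exact Subgroup.subset_closure ⟨a, sift_lt hsift w hw a ha, rfl⟩
where
  evalB_lt {P : List (List ℕ)} : ∀ {w : List ℕ}, evalB P w = true → ∀ b ∈ w, b < P.length
    | [], _, _, hb => absurd hb List.not_mem_nil
    | a :: w, h, b, hb => by
      simp only [evalB, Bool.and_eq_true, Nat.blt_eq] at h
      rcases List.mem_cons.1 hb with rfl | hb
      · exact h.1.1
      · exact evalB_lt h.2 b hb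
  sift_lt {L : List (List ℕ)} {m : ℕ} : ∀ {lv : List (ℕ × List (List ℕ))}, siftB L m lv = true →
      ∀ w ∈ lv.flatMap Prod.snd, ∀ a ∈ w, a < m
    | [], _, _, hw => absurd hw (by simp)
    | (n, ws) :: rest, h, w, hw => by
      simp only [siftB, Bool.and_eq_true, List.all_eq_true, Nat.blt_eq] at h
      simp only [List.flatMap_cons, List.mem_append] at hw
      rcases hw with hw | hw
      · exact (h.1.1.1.2 w hw).1
      · exact sift_lt h.2 w hw

end CfsgLib.SchurSuz
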