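import Cfsg.Agent.Lib.Schur.Suz.Multiplier
import Cfsg.Agent.Lib.Schur.Suz.CheckY2
import Cfsg.Agent.Lib.Schur.Suz.CheckY3
import Cfsg.Agent.Lib.Schur.Suz.CheckY5
import Cfsg.Agent.Lib.Sporadic.SuzG2
import Cfsg.Agent.Lib.Chevalley.FieldMap
import Mathlib.FieldTheory.Finite.GaloisField

/-!
The Schur multiplier of G2(4) is cyclic of order two, from its double cover inside 6.Suz.
-/

set_option autoImplicit false
set_option maxRecDepth 20000

namespace CfsgLib.SchurSuz

open Cfsg CfsgLib CfsgLib.Leech CfsgLib.Leech.Stab CfsgLib.Leech.Aut CfsgLib.SchurLeech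
open scoped commutatorElement

/-- The group generated by the first six lifts and negation. -/
noncomputable def KY : Subgroup Co0 := Subgroup.closure {g | ∃ a < 7, elY a = g}

theorem elY_mem (a : ℕ) : elY a ∈ KY := by
  refine Subgroup.subset_closure ⟨min a 6, by omega, ?_⟩
  unfold elY
  rcases Nat.lt_or_ge a 6 with h | h
  · rw [Nat.min_eq_left h.le]
  · have e1 : Nat.blt a 6 = false := Bool.eq_false_iff.2 fun hh => absurd (Nat.blt_eq.mp hh) (not_lt.2 h)
    have e2 : Nat.blt 6 6 = false := rfl
    rw [Nat.min_eq_right h, e1, e2]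
    rfl

/-- The generators of the double cover of G2(4). -/
noncomputable def kY (a : ℕ) : KY := ⟨elY a, elY_mem a⟩

theorem coe_kY (w : List ℕ) : ((SchurPath.wv kY w : KY) : Co0) = SchurPath.wv elY w := by
  induction w with
  | nil => rfl
  | cons a w ih =>
    show elY a * ((SchurPath.wv kY w : KY) : Co0) = _
    rw [ih]
    rfl

theorem kY_eq {u w : List ℕ} (h : eqW colsY u w = true) : SchurPath.wv kY u = SchurPath.wv kY w :=
  Subtype.ext (by rw [coe_kY, coe_kY]; exact wv_eq_of_eqW valid_Y h)

/-- The elements with the commuting element appended. -/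
noncomputable def elU (a : ℕ) : Co0 := bif Nat.blt a 9 then elX a else uEl

theorem valid_U : ∀ a < (colsX ++ [uC]).length, Valid (elU a) ((colsX ++ [uC]).getD a idC) := by
  intro a ha
  have h : a < 10 := ha
  rcases Nat.lt_or_ge a 9 with h9 | h9
  · have e : Nat.blt a 9 = true := Nat.blt_eq.mpr (by omega)
    rw [elU, e, List.getD_append _ _ _ _ (show a < colsX.length from h9)]
    exact valid_X a h9
  · obtain rfl : a = 9 := by omega
    exact valid_u

/-- The checks for the double cover of G2(4). -/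
def okY : Bool :=
  ((List.range 7).all fun a => eqW (colsX ++ [uC]) [bif Nat.blt a 6 then a else 8, 9] [9, bif Nat.blt a 6 then a else 8]) &&
  ([1, 2, 4, 5].all fun k => neW (colsX ++ [uC]) (zw k ++ [9]) ([9] ++ zw k)) &&
  (rels6.all fun l => eqW colsY l [] || eqW colsY l [6]) &&
  eqW colsY (comNegY.1 ++ comNegY.2) ([6] ++ comNegY.2 ++ comNegY.1)

theorem okY_true : okY = true := by decide +kernel

theorem factsY :
    (∀ g ∈ KY, g * uEl = uEl * g) ∧
    (∀ k ∈ [1, 2, 4, 5], ((zX ^ k : KX) : Co0) * uEl ≠ uEl * ((zX ^ k : KX) : Co0)) ∧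
    (∀ l ∈ rels6, SchurPath.wv kY l = 1 ∨ SchurPath.wv kY l = kY 6) ∧
    kY 6 ∈ commutator KY := by
  have h := okY_true
  simp only [okY, Bool.and_eq_true, List.all_eq_true, List.mem_range, Bool.or_eq_true] at h
  obtain ⟨⟨⟨hu, hz⟩, hl⟩, hn⟩ := h
  have oneY : ∀ a, SchurPath.wv kY [a] = kY a := fun a => by simp [SchurPath.wv]
  have oneU : ∀ a, SchurPath.wv elU [a] = elU a := fun a => by simp [SchurPath.wv]
  have hU : ∀ a < 9, elU a = elX a := fun a ha => by
    have e : Nat.blt a 9 = true := Nat.blt_eq.mpr (by omega)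
    rw [elU, e]; rfl
  have hzU : ∀ k, SchurPath.wv elU (zw k) = ((zX ^ k : KX) : Co0) := by
    intro k
    rw [show ((zX ^ k : KX) : Co0) = SchurPath.wv elX (zw k) from
      (congrArg (fun x : KX => (x : Co0)) (wv_zw k)).symm.trans (coe_kX (zw k))]
    show (List.map elU (zw k)).prod = (List.map elX (zw k)).prod
    refine congrArg List.prod (List.map_congr_left fun a ha => hU a ?_)
    simp only [zw, List.mem_flatten, List.mem_replicate] at ha
    obtain ⟨l, ⟨-, rfl⟩, ha⟩ := ha
    simp only [List.mem_cons, List.not_mem_nil, or_false] at ha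
    omega
  refine ⟨fun g hg => ?_, fun k hk => ?_, fun l hl' => ?_, ?_⟩
  · have hle : KY ≤ Subgroup.centralizer {uEl} := by
      rw [KY, Subgroup.closure_le]
      rintro _ ⟨a, ha, rfl⟩
      refine Subgroup.mem_centralizer_singleton_iff.2 ?_
      have e := wv_eq_of_eqW valid_U (hu a ha)
      rw [show [bif Nat.blt a 6 then a else 8, 9] = [bif Nat.blt a 6 then a else 8] ++ [9] from rfl,
        show [9, bif Nat.blt a 6 then a else 8] = [9] ++ [bif Nat.blt a 6 then a else 8] from rfl,
        SchurPath.wv_append, SchurPath.wv_append, oneU, oneU, hU _ (by cases Nat.blt a 6 <;> simp; omega)] at e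
      exact e
    exact Subgroup.mem_centralizer_singleton_iff.1 (hle hg)
  · have e := wv_ne_of_neW valid_U (hz k hk)
    rw [SchurPath.wv_append, SchurPath.wv_append, hzU, oneU] at e
    exact e
  · rcases hl l hl' with h | h
    · exact Or.inl (kY_eq h)
    · exact Or.inr ((kY_eq h).trans (oneY 6))
  · have e := kY_eq hn
    rw [SchurPath.wv_append, SchurPath.wv_append, SchurPath.wv_append, oneY] at e
    have ha : kY 6 = ⁅SchurPath.wv kY comNegY.1, SchurPath.wv kY comNegY.2⁆ := by
      rw [commutatorElement_def, e]; group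
    rw [ha, commutator_def]
    exact Subgroup.commutator_mem_commutator (Subgroup.mem_top _) (Subgroup.mem_top _)

theorem closure_kY : Subgroup.closure {g : KY | ∃ a < 7, kY a = g} = ⊤ := by
  apply Subgroup.map_injective (f := KY.subtype) Subtype.val_injective
  rw [MonoidHom.map_closure, ← MonoidHom.range_eq_map, Subgroup.range_subtype]
  conv_rhs => rw [KY]
  congr 1
  ext g
  constructor
  · rintro ⟨x, ⟨a, ha, rfl⟩, rfl⟩
    exact ⟨a, ha, rfl⟩
  · rintro ⟨a, ha, rfl⟩
    exact ⟨kY a, ⟨a, ha, rfl⟩, rfl⟩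

theorem isPerfect_KY : Group.IsPerfect KY := by
  rw [Group.isPerfect_def, eq_top_iff, ← closure_kY, Subgroup.closure_le]
  obtain ⟨e0, e1, e2, e3, e4, e5⟩ := kill6 (fun a => Abelianization.of (kY a)) fun l hl => by
    have hm : SchurPath.wv kY l ∈ (Abelianization.of (G := KY)).ker := by
      rw [Abelianization.ker_of]
      rcases factsY.2.2.1 l hl with h | h <;> rw [h]
      · exact one_mem _
      · exact factsY.2.2.2
    rw [MonoidHom.mem_ker, SchurPath.wv, map_list_prod, List.map_map] at hm
    exact hm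
  rintro _ ⟨a, ha, rfl⟩
  show kY a ∈ commutator KY
  interval_cases a
  iterate 6 rw [← Abelianization.ker_of, MonoidHom.mem_ker]; assumption
  exact factsY.2.2.2

theorem KY_le : KY ≤ KX := by
  rw [KY, Subgroup.closure_le]
  rintro _ ⟨a, -, rfl⟩
  exact elX_mem _

/-- The projection of the double cover. -/
noncomputable def projY : KY →* Cfsg.Spor.Suz := projX.comp (Subgroup.inclusion KY_le)

theorem projY_kY {a : ℕ} (ha : a < 6) : projY (kY a) = CosetEnum.Suz.g a := by
  have e : Nat.blt a 6 = true := Nat.blt_eq.mpr (by omega)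
  have hk : Subgroup.inclusion KY_le (kY a) = kX a := Subtype.ext (by
    show elY a = elX a
    rw [elY, e]; rfl)
  rw [projY, MonoidHom.comp_apply, hk, projX_kX (by omega)]

theorem kY_six_val : Subgroup.inclusion KY_le (kY 6) = zX ^ 3 := by
  rw [← facts.2.2.2.2.2.1]
  exact Subtype.ext rfl

theorem ker_projY : projY.ker = Subgroup.zpowers (kY 6) := by
  classical
  refine le_antisymm (fun x hx => ?_) ?_
  · have hfin : IsOfFinOrder zX := orderOf_pos_iff.1 (by rw [orderOf_zX]; norm_num)
    have hz : Subgroup.inclusion KY_le x ∈ ZX := by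
      rw [← ker_projX, MonoidHom.mem_ker]; exact hx
    rw [hfin.mem_zpowers_iff_mem_range_orderOf, orderOf_zX, Finset.mem_image] at hz
    obtain ⟨k, hk, e⟩ := hz
    rw [Finset.mem_range] at hk
    have hcase : k = 0 ∨ k = 3 := by
      by_contra hne
      push Not at hne
      refine factsY.2.1 k (by interval_cases k <;> simp_all) ?_
      rw [e]
      exact factsY.1 _ x.2
    rcases hcase with rfl | rfl
    · have : x = 1 := Subgroup.inclusion_injective KY_le (by rw [← e, pow_zero, map_one])
      rw [this]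
      exact one_mem _
    · have : x = kY 6 := Subgroup.inclusion_injective KY_le (by rw [← e, kY_six_val])
      rw [this]
      exact Subgroup.mem_zpowers _
  · rw [Subgroup.zpowers_le, MonoidHom.mem_ker, projY, MonoidHom.comp_apply, kY_six_val, ← MonoidHom.mem_ker,
      ker_projX]
    exact pow_mem_ZX 3

theorem range_projY : projY.range = CosetEnum.Suz.H := by
  rw [MonoidHom.range_eq_map, ← closure_kY, MonoidHom.map_closure, CosetEnum.Suz.H, CosetEnum.WordSub]
  have h1 : ∀ a, [a].map CosetEnum.Suz.g = [CosetEnum.Suz.g a] := fun a => rfl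
  refine le_antisymm ?_ ?_
  · rw [Subgroup.closure_le]
    rintro _ ⟨_, ⟨a, ha, rfl⟩, rfl⟩
    rcases Nat.lt_or_ge a 6 with h | h
    · refine Subgroup.subset_closure ⟨[a], ?_, ?_⟩
      · interval_cases a <;> decide
      · rw [projY_kY h, h1, List.prod_singleton]
    · obtain rfl : a = 6 := by omega
      have : projY (kY 6) = 1 := MonoidHom.mem_ker.1 (ker_projY ▸ Subgroup.mem_zpowers _)
      rw [this]
      exact one_mem _
  · refine Subgroup.closure_mono ?_
    rintro _ ⟨l, hl, rfl⟩
    have hl' : ∃ a < 6, l = [a] := by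
      simp only [CosetEnum.Suz.subWords, List.mem_cons, List.not_mem_nil, or_false] at hl
      rcases hl with rfl | rfl | rfl | rfl | rfl | rfl <;> exact ⟨_, by norm_num, rfl⟩
    obtain ⟨a, ha, rfl⟩ := hl'
    exact ⟨kY a, ⟨a, by omega, rfl⟩, by rw [projY_kY ha, h1, List.prod_singleton]⟩

theorem card_kY_six : Nat.card (Subgroup.zpowers (kY 6)) = 2 := by
  rw [Nat.card_zpowers, orderOf_eq_iff (by norm_num)]
  refine ⟨Subgroup.inclusion_injective KY_le ?_, fun m hm hm0 h => ?_⟩
  · rw [map_pow, kY_six_val, ← pow_mul, map_one]; exact facts.2.1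
  · obtain rfl : m = 1 := by omega
    refine facts.2.2.2.1 ?_
    rw [← kY_six_val, ← pow_one (kY 6), h, map_one]

theorem card_KY : Nat.card KY = 503193600 := by
  rw [Subgroup.card_eq_card_quotient_mul_card_subgroup projY.ker,
    Nat.card_congr (QuotientGroup.quotientKerEquivRange projY).toEquiv, range_projY, CosetEnum.Suz.card_H,
    ker_projY, card_kY_six]

instance finite_KY : Finite KY := Nat.finite_of_card_ne_zero (by rw [card_KY]; norm_num)

universe u

theorem valid_mem_Y : ∀ a < colsY.length, Valid (elY a) (colsY.getD a idC) ∧ elY a ∈ KY := fun a ha =>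
  ⟨valid_Y a ha, elY_mem a⟩

theorem not_dvd_Y (Γ : Type u) [Group Γ] [Finite Γ] (σ : Γ →* KY) (hσ : Function.Surjective σ)
    (hc : σ.ker ≤ Subgroup.center Γ) (hd : σ.ker ≤ commutator Γ) (r : ℕ) (hr : r.Prime)
    (hdvd : r ∣ Nat.card KY) : ¬ r ∣ Nat.card σ.ker := by
  have hf : Fact r.Prime := ⟨hr⟩
  have hdvd' : r ∣ 2 ^ 13 * 3 ^ 3 * 5 ^ 2 * 7 * 11 * 13 := hdvd.trans ⟨11, by rw [card_KY]; norm_num⟩
  rcases prime_cases hr hdvd' with rfl | rfl | rfl | rfl | rfl | rfl
  · exact not_dvd_of_data colsY elY valid_mem_Y lettersY2 lcolsY2 siftY2 certY2 checkY2 dataY2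
      card_KY (i := 61425) (by norm_num [certY2]) (by norm_num) σ hσ hc hd
  · exact not_dvd_of_data colsY elY valid_mem_Y lettersY3 lcolsY3 siftY3 certY3 checkY3 dataY3
      card_KY (i := 18636800) (by norm_num [certY3]) (by norm_num) σ hσ hc hd
  · exact not_dvd_of_data colsY elY valid_mem_Y lettersY5 lcolsY5 siftY5 certY5 checkY5 dataY5
      card_KY (i := 20127744) (by norm_num [certY5]) (by norm_num) σ hσ hc hd
  all_goals exact SchurBound.not_dvd_card_ker_of_sq_not_dvd σ hσ hc hd (by rw [card_KY]; norm_num)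

/-- The multiplier of G2(4) over any field with four elements. -/
theorem hasCyclic_g2four {F : Type u} [Field F] [Fintype F] (hF : Fintype.card F = 4) :
    Cfsg.HasCyclicSchurMultiplier ↥(Cfsg.Lie.chevG2.group F) 2 := by
  obtain ⟨e₁⟩ := CfsgLib.SuzG2.equiv_G2
  let e₂ : CosetEnum.Suz.H ≃* ↥(Cfsg.Lie.chevG2.group F) := e₁.trans (CfsgLib.Chevalley.groupFieldEquiv Cfsg.Lie.chevG2
    (FiniteField.ringEquivOfCardEq (CfsgLib.Recog.GF4.card_K4.trans hF.symm)))
  let π : ULift.{u} KY →* ↥(Cfsg.Lie.chevG2.group F) :=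
    (((MulEquiv.subgroupCongr range_projY).trans e₂).toMonoidHom.comp projY.rangeRestrict).comp
      MulEquiv.ulift.toMonoidHom
  have hπs : Function.Surjective π :=
    (((MulEquiv.subgroupCongr range_projY).trans e₂).surjective.comp projY.rangeRestrict_surjective).comp
      MulEquiv.ulift.surjective
  have hker : ∀ x : ULift.{u} KY, x ∈ π.ker ↔ x.down ∈ Subgroup.zpowers (kY 6) := fun x => by
    rw [MonoidHom.mem_ker, ← ker_projY, MonoidHom.mem_ker]
    refine (map_eq_one_iff ((MulEquiv.subgroupCongr range_projY).trans e₂)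
      ((MulEquiv.subgroupCongr range_projY).trans e₂).injective).trans ?_
    exact ⟨fun h => congrArg Subtype.val h, fun h => Subtype.ext h⟩
  have hperf : Group.IsPerfect (ULift.{u} KY) := by
    rw [Group.isPerfect_def, commutator_def,
      ← Subgroup.map_top_of_surjective (MulEquiv.ulift : ULift.{u} KY ≃* KY).symm.toMonoidHom
        (MulEquiv.ulift : ULift.{u} KY ≃* KY).symm.surjective, ← Subgroup.map_commutator,
      ← commutator_def, isPerfect_KY.commutator_eq_top]
  have hcen : kY 6 ∈ Subgroup.center KY := by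
    rw [Subgroup.mem_center_iff]
    intro g
    apply Subgroup.inclusion_injective KY_le
    rw [map_mul, map_mul, kY_six_val]
    exact Subgroup.mem_center_iff.1 (pow_mem zX_mem_center 3) _
  have hπc : π.ker ≤ Subgroup.center (ULift.{u} KY) := fun x hx => by
    rw [Subgroup.mem_center_iff]
    intro g
    exact ULift.down_injective (Subgroup.mem_center_iff.1 (Subgroup.zpowers_le.2 hcen ((hker x).1 hx)) g.down)
  let eker : π.ker ≃* Subgroup.zpowers (kY 6) :=
    { toFun := fun x => ⟨(x : ULift.{u} KY).down, (hker _).1 x.2⟩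
      invFun := fun y => ⟨ULift.up (y : KY), (hker _).2 y.2⟩
      left_inv := fun _ => rfl
      right_inv := fun _ => rfl
      map_mul' := fun _ _ => rfl }
  refine Schur.hasSchurMultiplier_of_universal hperf π hπs hπc (fun Δ _ _ τ hτ =>
    stem_trivial not_dvd_Y Δ τ hτ) (eker.trans (mulEquivOfCyclicCardEq ?_))
  rw [card_kY_six, Nat.card_congr Multiplicative.toAdd, Nat.card_zmod]

end CfsgLib.SchurSuz
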