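import Cfsg.Agent.Lib.Schur.Suz.Prim
import Cfsg.Agent.Lib.CosetEnum.Suz.Exact
import Cfsg.Agent.Lib.CosetEnum.Suz.Simple
import Cfsg.Agent.Lib.Schur.Trivial
import Cfsg.Agent.Lib.Schur.Universal
import Mathlib.GroupTheory.Abelianization.Defs
import Mathlib.Tactic.IntervalCases

/-!
The group 6.Suz inside Co0: the map onto the presented Suzuki group, the central kernel of order six,
and perfectness.
-/

set_option autoImplicit false
set_option maxRecDepth 20000

namespace CfsgLib.SchurSuz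

open Cfsg CfsgLib CfsgLib.Leech CfsgLib.Leech.Stab CfsgLib.Leech.Aut CfsgLib.SchurLeech
open CfsgLib.CosetEnum (gen)
open scoped commutatorElement

/-- Two words have the same checked columns. -/
def eqW (P : List (List ℕ)) (u w : List ℕ) : Bool := evalB P u && evalB P w && eqC (evalC P u) (evalC P w)

/-- Two words have different checked columns. -/
def neW (P : List (List ℕ)) (u w : List ℕ) : Bool := evalB P u && evalB P w && !eqC (evalC P u) (evalC P w)

theorem wv_eq_of_eqW {P : List (List ℕ)} {e : ℕ → Co0} (he : ∀ a < P.length, Valid (e a) (P.getD a idC))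
    {u w : List ℕ} (h : eqW P u w = true) : SchurPath.wv e u = SchurPath.wv e w := by
  simp only [eqW, Bool.and_eq_true] at h
  exact eq_of_eqC (valid_evalC e he _ h.1.1) (valid_evalC e he _ h.1.2) h.2

theorem wv_ne_of_neW {P : List (List ℕ)} {e : ℕ → Co0} (he : ∀ a < P.length, Valid (e a) (P.getD a idC))
    {u w : List ℕ} (h : neW P u w = true) : SchurPath.wv e u ≠ SchurPath.wv e w := by
  simp only [neW, Bool.and_eq_true, Bool.not_eq_true'] at h
  exact ne_of_eqC (valid_evalC e he _ h.1.1) (valid_evalC e he _ h.1.2) h.2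

/-- The group generated by the lifts and the central elements. -/
noncomputable def KX : Subgroup Co0 := Subgroup.closure {g | ∃ a < 9, elX a = g}

theorem elX_mem (a : ℕ) : elX a ∈ KX := by
  refine Subgroup.subset_closure ⟨min a 8, by omega, ?_⟩
  rcases Nat.lt_or_ge a 8 with h | h
  · rw [Nat.min_eq_left h.le]
  · rw [Nat.min_eq_right h]
    rcases Nat.exists_eq_add_of_le h with ⟨k, rfl⟩
    rw [Nat.add_comm 8 k]
    rfl

/-- The generators of 6.Suz. -/
noncomputable def kX (a : ℕ) : KX := ⟨elX a, elX_mem a⟩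

theorem coe_kX (w : List ℕ) : ((SchurPath.wv kX w : KX) : Co0) = SchurPath.wv elX w := by
  induction w with
  | nil => rfl
  | cons a w ih =>
    show elX a * ((SchurPath.wv kX w : KX) : Co0) = _
    rw [ih]
    rfl

theorem kX_eq {u w : List ℕ} (h : eqW colsX u w = true) : SchurPath.wv kX u = SchurPath.wv kX w :=
  Subtype.ext (by rw [coe_kX, coe_kX]; exact wv_eq_of_eqW valid_X h)

theorem kX_ne {u w : List ℕ} (h : neW colsX u w = true) : SchurPath.wv kX u ≠ SchurPath.wv kX w := fun e =>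
  wv_ne_of_neW valid_X h (by rw [← coe_kX, ← coe_kX, e])

theorem closure_kX : Subgroup.closure {g : KX | ∃ a < 9, kX a = g} = ⊤ := by
  apply Subgroup.map_injective (f := KX.subtype) Subtype.val_injective
  rw [MonoidHom.map_closure, ← MonoidHom.range_eq_map, Subgroup.range_subtype]
  conv_rhs => rw [KX]
  congr 1
  ext g
  constructor
  · rintro ⟨x, ⟨a, ha, rfl⟩, rfl⟩
    exact ⟨a, ha, rfl⟩
  · rintro ⟨a, ha, rfl⟩
    exact ⟨kX a, ⟨a, ha, rfl⟩, rfl⟩

/-- The word of a power of the central element. -/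
def zw (k : ℕ) : List ℕ := (List.replicate k [7, 8]).flatten

/-- The central element of order six. -/
noncomputable def zX : KX := kX 7 * kX 8

theorem wv_zw : ∀ k : ℕ, SchurPath.wv kX (zw k) = zX ^ k
  | 0 => rfl
  | k + 1 => by
    rw [pow_succ', ← wv_zw k, zw, List.replicate_succ, List.flatten_cons, SchurPath.wv_append]
    congr 1

/-- The checks for the group 6.Suz. -/
def okX : Bool :=
  ((List.range 9).all fun a => eqW colsX ([7, 8] ++ [a]) ([a] ++ [7, 8])) &&
  eqW colsX (zw 6) [] && neW colsX (zw 2) [] && neW colsX (zw 3) [] &&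
  eqW colsX [7] (zw 4) && eqW colsX [8] (zw 3) &&
  ((List.range 6).all fun k => neW colsX [0] (zw k)) &&
  (CosetEnum.Suz.ls.all fun l => (l.all fun a => Nat.blt a 7) && (List.range 6).any fun k => eqW colsX l (zw k)) &&
  eqW colsX (comOm.1 ++ comOm.2) ([7] ++ comOm.2 ++ comOm.1) &&
  eqW colsX (comNeg.1 ++ comNeg.2) ([8] ++ comNeg.2 ++ comNeg.1)

theorem okX_true : okX = true := by decide +kernel

theorem facts :
    (∀ a < 9, zX * kX a = kX a * zX) ∧ zX ^ 6 = 1 ∧ zX ^ 2 ≠ 1 ∧ zX ^ 3 ≠ 1 ∧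
    kX 7 = zX ^ 4 ∧ kX 8 = zX ^ 3 ∧ (∀ k < 6, kX 0 ≠ zX ^ k) ∧
    (∀ l ∈ CosetEnum.Suz.ls, (∀ a ∈ l, a < 7) ∧ ∃ k : ℕ, SchurPath.wv kX l = zX ^ k) ∧
    kX 7 ∈ commutator KX ∧ kX 8 ∈ commutator KX := by
  have h := okX_true
  simp only [okX, Bool.and_eq_true, List.all_eq_true, List.any_eq_true, List.mem_range, Nat.blt_eq] at h
  obtain ⟨⟨⟨⟨⟨⟨⟨⟨⟨hc, h6⟩, h2⟩, h3⟩, h7⟩, h8⟩, h0⟩, hl⟩, ho⟩, hn⟩ := h
  have one : ∀ a, SchurPath.wv kX [a] = kX a := fun a => by simp [SchurPath.wv]
  have com : ∀ (u v : List ℕ) (a : ℕ), eqW colsX (u ++ v) ([a] ++ v ++ u) = true → kX a ∈ commutator KX := by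
    intro u v a e
    have e' := kX_eq e
    rw [SchurPath.wv_append, SchurPath.wv_append, SchurPath.wv_append, one] at e'
    have ha : kX a = ⁅SchurPath.wv kX u, SchurPath.wv kX v⁆ := by
      rw [commutatorElement_def, e']; group
    rw [ha, commutator_def]
    exact Subgroup.commutator_mem_commutator (Subgroup.mem_top _) (Subgroup.mem_top _)
  refine ⟨fun a ha => ?_, ?_, ?_, ?_, ?_, ?_, fun k hk => ?_, fun l hl' => ?_, com _ _ _ ho, com _ _ _ hn⟩
  · have := kX_eq (hc a ha)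
    rw [SchurPath.wv_append, SchurPath.wv_append, one, show SchurPath.wv kX [7, 8] = zX by simp [SchurPath.wv, zX]] at this
    exact this
  · rw [← wv_zw]; exact kX_eq h6
  · rw [← wv_zw]; exact kX_ne h2
  · rw [← wv_zw]; exact kX_ne h3
  · rw [← wv_zw, ← one]; exact kX_eq h7
  · rw [← wv_zw, ← one]; exact kX_eq h8
  · rw [← wv_zw, ← one]; exact kX_ne (h0 k hk)
  · obtain ⟨h1, k, -, e⟩ := hl l hl'
    exact ⟨h1, k, by rw [← wv_zw]; exact kX_eq e⟩

theorem zX_mem_center : zX ∈ Subgroup.center KX := by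
  rw [Subgroup.mem_center_iff]
  intro g
  have hg : g ∈ Subgroup.closure {g : KX | ∃ a < 9, kX a = g} := closure_kX ▸ Subgroup.mem_top g
  have hle : Subgroup.closure {g : KX | ∃ a < 9, kX a = g} ≤ Subgroup.centralizer {zX} := by
    rw [Subgroup.closure_le]
    rintro _ ⟨a, ha, rfl⟩
    exact Subgroup.mem_centralizer_singleton_iff.2 (facts.1 a ha).symm
  exact Subgroup.mem_centralizer_singleton_iff.1 (hle hg)

/-- The central subgroup of order six. -/
noncomputable abbrev ZX : Subgroup KX := Subgroup.zpowers zX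

theorem ZX_le_center : ZX ≤ Subgroup.center KX := Subgroup.zpowers_le.2 zX_mem_center

instance : ZX.Normal := ⟨fun n hn g => by
  rw [Subgroup.mem_center_iff.1 (ZX_le_center hn) g, mul_inv_cancel_right]
  exact hn⟩

theorem orderOf_zX : orderOf zX = 6 := by
  rw [orderOf_eq_iff (by norm_num)]
  refine ⟨facts.2.1, fun m hm hm0 h => ?_⟩
  have e2 := facts.2.2.1
  have e3 := facts.2.2.2.1
  have e6 := facts.2.1
  interval_cases m
  · exact e2 (by rw [pow_two, ← pow_one zX, h, one_mul])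
  · exact e2 h
  · exact e3 h
  · exact e2 (by rw [show zX ^ 2 = zX ^ 6 * (zX ^ 4)⁻¹ by group, e6, h, inv_one, one_mul])
  · exact e2 (by
      have h1 : zX = 1 := by rw [show zX = zX ^ 6 * (zX ^ 5)⁻¹ by group, e6, h, inv_one, one_mul]
      rw [h1, one_pow])

theorem card_ZX : Nat.card ZX = 6 := by rw [Nat.card_zpowers, orderOf_zX]

theorem pow_mem_ZX (k : ℕ) : zX ^ k ∈ ZX := Subgroup.npow_mem_zpowers zX k

/-- The map on free generators. -/
noncomputable def phiX : FreeGroup Cfsg.Spor.Suz.Gen →* KX ⧸ ZX :=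
  FreeGroup.lift fun a => QuotientGroup.mk (kX (CosetEnum.Suz.idx a))

theorem phiX_gF {x : ℕ} (hx : x < 7) : phiX (CosetEnum.Suz.gF x) = QuotientGroup.mk (kX x) := by
  interval_cases x <;> exact FreeGroup.lift_apply_of

theorem phiX_word {l : List ℕ} (hl : ∀ a ∈ l, a < 7) :
    (l.map fun x => phiX (CosetEnum.Suz.gF x)).prod = QuotientGroup.mk (SchurPath.wv kX l) := by
  rw [List.map_congr_left fun x hx => phiX_gF (hl x hx), SchurPath.wv, ← QuotientGroup.mk'_apply,
    map_list_prod, List.map_map]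
  rfl

theorem phiX_ls {l : List ℕ} (hl : l ∈ CosetEnum.Suz.ls) :
    (l.map fun x => phiX (CosetEnum.Suz.gF x)).prod = 1 := by
  obtain ⟨h7, k, hk⟩ := facts.2.2.2.2.2.2.2.1 l hl
  rw [phiX_word h7, hk, QuotientGroup.eq_one_iff]
  exact pow_mem_ZX k

theorem phiX_inv : ∀ x < 16, phiX (CosetEnum.Suz.gF (CosetEnum.linv 18364758544493064720 x)) =
    (phiX (CosetEnum.Suz.gF x))⁻¹ := by
  intro x hx
  rw [CosetEnum.Suz.linv_eq x hx, eq_inv_iff_mul_eq_one]
  rcases Nat.lt_or_ge x 7 with h | h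
  · have hm : [x, x] ∈ CosetEnum.Suz.ls := by
      interval_cases x <;> decide
    simpa using phiX_ls hm
  · have : CosetEnum.Suz.gF x = 1 := by interval_cases x <;> rfl
    rw [this, map_one, one_mul]

/-- The presented group maps onto 6.Suz modulo its centre. -/
noncomputable def psiX : Cfsg.Spor.Suz →* KX ⧸ ZX :=
  PresentedGroup.toGroup (CosetEnum.Suz.translation.relator_eq_one phiX phiX_inv fun _ hl => phiX_ls hl)

theorem psiX_g {x : ℕ} (hx : x < 7) : psiX (CosetEnum.Suz.g x) = QuotientGroup.mk (kX x) := by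
  interval_cases x <;> exact PresentedGroup.toGroup.of _

theorem psiX_surjective : Function.Surjective psiX := by
  rw [← MonoidHom.range_eq_top, eq_top_iff]
  have h : (⊤ : Subgroup (KX ⧸ ZX)) = (⊤ : Subgroup KX).map (QuotientGroup.mk' ZX) :=
    (Subgroup.map_top_of_surjective _ (QuotientGroup.mk'_surjective ZX)).symm
  rw [h, ← closure_kX, MonoidHom.map_closure, Subgroup.closure_le]
  rintro _ ⟨_, ⟨a, ha, rfl⟩, rfl⟩
  rcases Nat.lt_or_ge a 7 with h7 | h7
  · exact ⟨CosetEnum.Suz.g a, psiX_g h7⟩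
  · have hm : kX a ∈ ZX := by
      interval_cases a
      · rw [facts.2.2.2.2.1]; exact pow_mem_ZX 4
      · rw [facts.2.2.2.2.2.1]; exact pow_mem_ZX 3
    rw [QuotientGroup.mk'_apply, (QuotientGroup.eq_one_iff _).2 hm]
    exact one_mem _

theorem psiX_injective : Function.Injective psiX := by
  classical
  have := CosetEnum.Suz.Simple.isSimple
  rcases this.eq_bot_or_eq_top_of_normal psiX.ker inferInstance with h | h
  · exact (MonoidHom.ker_eq_bot_iff _).1 h
  · exfalso
    have h0 : psiX (CosetEnum.Suz.g 0) = 1 := MonoidHom.mem_ker.1 (h ▸ Subgroup.mem_top _)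
    rw [psiX_g (by norm_num), QuotientGroup.eq_one_iff] at h0
    have hfin : IsOfFinOrder zX := orderOf_pos_iff.1 (by rw [orderOf_zX]; norm_num)
    rw [hfin.mem_zpowers_iff_mem_range_orderOf, orderOf_zX, Finset.mem_image] at h0
    obtain ⟨k, hk, e⟩ := h0
    exact facts.2.2.2.2.2.2.1 k (Finset.mem_range.1 hk) e.symm

/-- The presented group is 6.Suz modulo its centre. -/
noncomputable def equivX : Cfsg.Spor.Suz ≃* KX ⧸ ZX :=
  MulEquiv.ofBijective psiX ⟨psiX_injective, psiX_surjective⟩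

/-- The projection of 6.Suz onto the presented group. -/
noncomputable def projX : KX →* Cfsg.Spor.Suz := equivX.symm.toMonoidHom.comp (QuotientGroup.mk' ZX)

theorem projX_surjective : Function.Surjective projX :=
  equivX.symm.surjective.comp (QuotientGroup.mk'_surjective ZX)

theorem ker_projX : projX.ker = ZX := by
  ext x
  rw [MonoidHom.mem_ker, projX, MonoidHom.comp_apply, MulEquiv.coe_toMonoidHom, map_eq_one_iff _ equivX.symm.injective,
    QuotientGroup.mk'_apply, QuotientGroup.eq_one_iff]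

theorem projX_kX {a : ℕ} (ha : a < 7) : projX (kX a) = CosetEnum.Suz.g a :=
  equivX.symm_apply_eq.2 (psiX_g ha).symm

theorem card_KX : Nat.card KX = 2690072985600 := by
  rw [Subgroup.card_eq_card_quotient_mul_card_subgroup ZX, card_ZX, ← Nat.card_congr equivX.toEquiv,
    CosetEnum.Suz.card_group]

instance finite_KX : Finite KX := Nat.finite_of_card_ne_zero (by rw [card_KX]; norm_num)

/-- Relations killing the abelianisation of the first six generators. -/
def rels6 : List (List ℕ) :=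
  [[0, 0], [1, 1], [2, 2], [3, 3], [4, 4], [5, 5], [0, 1, 0, 1, 0, 1, 0, 1, 0, 1], [1, 2, 1, 2, 1, 2],
   [1, 5, 1, 5, 1, 5], [3, 4, 3, 4, 3, 4], [0, 3, 2, 3, 2, 3, 2, 3, 2],
   [1, 2, 3, 2, 3, 1, 2, 3, 2, 3, 1, 2, 3, 2, 3, 1, 2, 3, 2, 3, 1, 2, 3, 2, 3, 4, 1, 2, 3, 2, 3, 1, 2, 3, 2, 3, 1, 2, 3, 2, 3, 1, 2, 3, 2, 3, 1, 2, 3, 2, 3, 4, 1, 2, 3, 2, 3, 1, 2, 3, 2, 3, 1, 2, 3, 2, 3, 1, 2, 3, 2, 3, 1, 2, 3, 2, 3, 4]]

theorem kill6 {A : Type*} [CommGroup A] (f : ℕ → A) (h : ∀ l ∈ rels6, (l.map f).prod = 1) :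
    f 0 = 1 ∧ f 1 = 1 ∧ f 2 = 1 ∧ f 3 = 1 ∧ f 4 = 1 ∧ f 5 = 1 := by
  simp only [rels6, List.forall_mem_cons, List.map_cons, List.map_nil, List.prod_cons, List.prod_nil, mul_one,
    List.not_mem_nil, false_implies, implies_true, and_true] at h
  obtain ⟨s0, s1, s2, s3, s4, s5, hab, hbc, hbf, hde, hcd, hex⟩ := h
  have c0 : ∀ y, f 0 * (f 0 * y) = y := fun y => by rw [← mul_assoc, s0, one_mul]
  have c1 : ∀ y, f 1 * (f 1 * y) = y := fun y => by rw [← mul_assoc, s1, one_mul]
  have c2 : ∀ y, f 2 * (f 2 * y) = y := fun y => by rw [← mul_assoc, s2, one_mul]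
  have c3 : ∀ y, f 3 * (f 3 * y) = y := fun y => by rw [← mul_assoc, s3, one_mul]
  simp only [mul_comm, mul_left_comm, mul_assoc, c0, c1, c2, c3, s0, s1, s2, s3, s4, s5, one_mul, mul_one]
    at hab hbc hbf hde hcd hex
  have e0 : f 0 = 1 := hcd
  have e1 : f 1 = 1 := by simpa [e0] using hab
  have e2 : f 2 = 1 := by simpa [e1] using hbc
  have e5 : f 5 = 1 := by simpa [e1] using hbf
  have e4 : f 4 = 1 := by simpa [e1, e2, s3, s4, c3] using hex
  have e3 : f 3 = 1 := by simpa [e4] using hde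
  exact ⟨e0, e1, e2, e3, e4, e5⟩

theorem isPerfect_KX : Group.IsPerfect KX := by
  have hz : zX ∈ commutator KX := mul_mem facts.2.2.2.2.2.2.2.2.1 facts.2.2.2.2.2.2.2.2.2
  rw [Group.isPerfect_def, eq_top_iff, ← closure_kX, Subgroup.closure_le]
  have hw : ∀ l ∈ CosetEnum.Suz.ls, (l.map fun a => Abelianization.of (kX a)).prod = 1 := by
    intro l hl
    obtain ⟨-, k, hk⟩ := facts.2.2.2.2.2.2.2.1 l hl
    have hm : SchurPath.wv kX l ∈ Abelianization.of.ker := by
      rw [hk, Abelianization.ker_of]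
      exact pow_mem hz k
    rw [MonoidHom.mem_ker, SchurPath.wv, map_list_prod, List.map_map] at hm
    exact hm
  have hmem : ∀ l ∈ rels6, l ∈ CosetEnum.Suz.ls := by decide +kernel
  obtain ⟨e0, e1, e2, e3, e4, e5⟩ := kill6 (fun a => Abelianization.of (kX a)) fun l hl => hw l (hmem l hl)
  have e6 : Abelianization.of (kX 6) = 1 := by
    have h66 := hw [6, 6] (by decide)
    have h16 := hw [1, 6, 1, 6, 1, 6] (by decide)
    simp only [List.map_cons, List.map_nil, List.prod_cons, List.prod_nil, mul_one, e1, one_mul] at h66 h16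
    rwa [h66, mul_one] at h16
  rintro _ ⟨a, ha, rfl⟩
  show kX a ∈ commutator KX
  interval_cases a
  iterate 7 rw [← Abelianization.ker_of, MonoidHom.mem_ker]; assumption
  · exact facts.2.2.2.2.2.2.2.2.1
  · exact facts.2.2.2.2.2.2.2.2.2

end CfsgLib.SchurSuz
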