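import Cfsg.Agent.Lib.Schur.Suz.Main
import Cfsg.Agent.Lib.Schur.Suz.Eval
import Cfsg.Agent.Lib.Schur.Suz.CheckX2
import Cfsg.Agent.Lib.Schur.Suz.CheckX3
import Cfsg.Agent.Lib.Schur.Suz.CheckX5
import Mathlib.Tactic.NormNum.Prime

/-!
The Schur multiplier of the presented Suzuki group is cyclic of order six.
-/

set_option autoImplicit false
set_option maxRecDepth 20000

namespace CfsgLib.SchurSuz

open Cfsg CfsgLib CfsgLib.Leech CfsgLib.Leech.Stab CfsgLib.Leech.Aut CfsgLib.SchurLeech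

universe u

/-- A finite group without stem kernels of prime order has only trivial stem extensions, in every universe. -/
theorem stem_trivial {K : Type} [Group K] [Finite K]
    (h : ∀ (Γ : Type u) [Group Γ] [Finite Γ] (σ : Γ →* K), Function.Surjective σ →
      σ.ker ≤ Subgroup.center Γ → σ.ker ≤ commutator Γ → ∀ r : ℕ, r.Prime → r ∣ Nat.card K → ¬ r ∣ Nat.card σ.ker)
    (Δ : Type u) [Group Δ] [Finite Δ] (τ : Δ →* ULift.{u} K) (hτ : Cfsg.IsStemExtension τ) : τ.ker = ⊥ := by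
  have hc : Cfsg.HasCyclicSchurMultiplier (ULift.{u} K) 1 := by
    refine SchurTrivial.hasCyclic_one fun Γ _ _ σ hσ hc hd r hr hdvd => ?_
    have hk : (MulEquiv.ulift.toMonoidHom.comp σ).ker = σ.ker := by
      ext x
      rw [MonoidHom.mem_ker, MonoidHom.mem_ker]
      exact map_eq_one_iff _ (MulEquiv.ulift (α := K)).injective
    have := h Γ (MulEquiv.ulift.toMonoidHom.comp σ) (MulEquiv.ulift.surjective.comp hσ) (hk.le.trans hc)
      (hk.le.trans hd) r hr (by rwa [← Nat.card_congr Equiv.ulift])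
    rwa [hk] at this
  obtain ⟨π, hπ⟩ := hc.2 Δ τ hτ
  rw [Subgroup.eq_bot_iff_forall]
  intro x hx
  obtain ⟨a, ha⟩ := hπ ⟨x, hx⟩
  have h1 : a = 1 := Subsingleton.elim (α := Multiplicative (ZMod 1)) _ _
  rw [h1, map_one] at ha
  exact congrArg Subtype.val ha.symm

theorem prime_cases {r : ℕ} (hr : r.Prime) {a b c : ℕ} (h : r ∣ 2 ^ a * 3 ^ b * 5 ^ c * 7 * 11 * 13) :
    r = 2 ∨ r = 3 ∨ r = 5 ∨ r = 7 ∨ r = 11 ∨ r = 13 := by
  have key : ∀ {q k : ℕ}, q.Prime → r ∣ q ^ k → r = q := fun hq h =>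
    (Nat.prime_dvd_prime_iff_eq hr hq).1 (hr.dvd_of_dvd_pow h)
  rcases hr.dvd_mul.1 h with h | h
  · rcases hr.dvd_mul.1 h with h | h
    · rcases hr.dvd_mul.1 h with h | h
      · rcases hr.dvd_mul.1 h with h | h
        · rcases hr.dvd_mul.1 h with h | h
          · exact Or.inl (key Nat.prime_two h)
          · exact Or.inr (Or.inl (key Nat.prime_three h))
        · exact Or.inr (Or.inr (Or.inl (key Nat.prime_five h)))
      · exact Or.inr (Or.inr (Or.inr (Or.inl (key (k := 1) (by norm_num) (by rwa [pow_one])))))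
    · exact Or.inr (Or.inr (Or.inr (Or.inr (Or.inl (key (k := 1) (by norm_num) (by rwa [pow_one]))))))
  · exact Or.inr (Or.inr (Or.inr (Or.inr (Or.inr (key (k := 1) (by norm_num) (by rwa [pow_one]))))))

theorem valid_mem_X : ∀ a < colsX.length, Valid (elX a) (colsX.getD a idC) ∧ elX a ∈ KX := fun a ha =>
  ⟨valid_X a ha, elX_mem a⟩

theorem not_dvd_X (Γ : Type u) [Group Γ] [Finite Γ] (σ : Γ →* KX) (hσ : Function.Surjective σ)
    (hc : σ.ker ≤ Subgroup.center Γ) (hd : σ.ker ≤ commutator Γ) (r : ℕ) (hr : r.Prime)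
    (hdvd : r ∣ Nat.card KX) : ¬ r ∣ Nat.card σ.ker := by
  have hf : Fact r.Prime := ⟨hr⟩
  rw [card_KX, show (2690072985600 : ℕ) = 2 ^ 14 * 3 ^ 8 * 5 ^ 2 * 7 * 11 * 13 by norm_num] at hdvd
  rcases prime_cases hr hdvd with rfl | rfl | rfl | rfl | rfl | rfl
  · exact not_dvd_of_data colsX elX valid_mem_X lettersX2 lcolsX2 siftX2 certX2 checkX2 dataX2
      card_KX (i := 164189025) (by norm_num [certX2]) (by norm_num) σ hσ hc hd
  · exact not_dvd_of_data colsX elX valid_mem_X lettersX3 lcolsX3 siftX3 certX3 checkX3 dataX3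
      card_KX (i := 410009600) (by norm_num [certX3]) (by norm_num) σ hσ hc hd
  · exact not_dvd_of_data colsX elX valid_mem_X lettersX5 lcolsX5 siftX5 certX5 checkX5 dataX5
      card_KX (i := 107602919424) (by norm_num [certX5]) (by norm_num) σ hσ hc hd
  all_goals exact SchurBound.not_dvd_card_ker_of_sq_not_dvd σ hσ hc hd (by rw [card_KX]; norm_num)

/-- The multiplier of the presented Suzuki group. -/
theorem hasCyclic_suz : Cfsg.HasCyclicSchurMultiplier Cfsg.Spor.Suz 6 := by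
  have htriv : ∀ (Δ : Type) [Group Δ] [Finite Δ] (τ : Δ →* KX), Cfsg.IsStemExtension τ → τ.ker = ⊥ := by
    intro Δ _ _ τ hτ
    obtain ⟨h1, h2, h3⟩ := hτ
    have hk : ((MulEquiv.ulift.{0} (α := KX)).symm.toMonoidHom.comp τ).ker = τ.ker := by
      ext x
      rw [MonoidHom.mem_ker, MonoidHom.mem_ker]
      exact map_eq_one_iff _ (MulEquiv.ulift (α := KX)).symm.injective
    rw [← hk]
    exact stem_trivial.{0} not_dvd_X Δ _ ⟨(MulEquiv.ulift (α := KX)).symm.surjective.comp h1,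
      hk.le.trans h2, hk.le.trans h3⟩
  have hcard : Nat.card projX.ker = 6 := by rw [ker_projX, card_ZX]
  have hcyc : IsCyclic projX.ker := by rw [ker_projX]; infer_instance
  refine Schur.hasSchurMultiplier_of_universal isPerfect_KX projX projX_surjective
    (ker_projX ▸ ZX_le_center) htriv (mulEquivOfCyclicCardEq (G' := Multiplicative (ZMod 6)) ?_)
  rw [hcard, Nat.card_congr Multiplicative.toAdd, Nat.card_zmod]

end CfsgLib.SchurSuz
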