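import Cfsg.Agent.Lib.Schur.PathCert

/-!
Rewriting paths given by positions: each step is coded by its position, relation and direction.
-/

set_option autoImplicit false

namespace CfsgLib.SchurSuz

open CfsgLib

/-- The steps of a coded path from a word. -/
def expand (R : SchurPath.Rels) : List ℕ → List ℕ → List SchurPath.Step
  | _, [] => []
  | w, c :: cs =>
    let d : Bool := Nat.beq (c % 2) 1
    let r := c / 2 % 1024
    let q := c / 2048
    let rel := R.getD r ([], [])
    let l := bif d then rel.2 else rel.1
    let st : SchurPath.Step := (w.take q, w.drop (q + l.length), r, d)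
    st :: expand R (SchurPath.dst R st) cs

/-- Coded paths. -/
def mkPaths (R : SchurPath.Rels) (ps : List (List ℕ × List ℕ)) : List (List ℕ × List SchurPath.Step) :=
  ps.map fun p => (p.1, expand R p.1 p.2)

end CfsgLib.SchurSuz
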